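import Cfsg.Agent.Lib.J1Square.Model
import Cfsg.Agent.Lib.Components

/-!
Groups with trivial radical inside the spectrum of the square of the first Janko group: the components.
-/

set_option autoImplicit false
set_option maxHeartbeats 1000000
set_option linter.unusedSectionVars false
set_option linter.style.haveILetI false

namespace CfsgLib.J1Square

open Cfsg CfsgLib
open scoped commutatorElement

universe u v

/-- The three isomorphism types. -/
def Kind (K : Type u) [Group K] : Prop := IsA K ∨ IsL K ∨ IsJ K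

section Kind

variable {K : Type u} [Group K]

theorem Kind.card (h : Kind K) : Nat.card K = 60 ∨ Nat.card K = 660 ∨ Nat.card K = 175560 :=
  h.imp IsA.card (fun h => h.imp IsL.card IsJ.card)

theorem Kind.simp (h : Kind K) : Simp K := by
  rcases h with h | h | h
  exacts [h.simp, h.simp, h.simp]

theorem Kind.sq_inner (h : Kind K) (φ : MulAut K) : ∃ x : K, φ * φ = MulAut.conj x := by
  rcases h with h | h | h
  · exact h.sq_inner φ
  · exact h.sq_inner φ
  · obtain ⟨x, hx⟩ := h.inner φ
    exact ⟨x * x, by rw [hx, map_mul]⟩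

theorem Kind.isA (h : Kind K) (hc : Nat.card K = 60) : IsA K := by
  rcases h with h | h | h
  · exact h
  · rw [h.card] at hc; norm_num at hc
  · rw [h.card] at hc; norm_num at hc

theorem IsL.no_fifty_five (h : IsL K) (k : K) : orderOf k ≠ 55 := by
  obtain ⟨-, ⟨e⟩⟩ := h
  haveI : CharP (ZMod 11) 11 := ZMod.charP 11
  intro ho
  have := (PSL2Spectrum.psl_orders (F := ZMod 11) 11 55).mp ⟨e k, by rw [MulEquiv.orderOf_eq, ho]⟩
  rw [ZMod.card 11] at this
  revert this
  decide

end Kind

variable {G : Type u} [Group G] [Finite G]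

theorem exists_lift_hom {Q : Type u} [Group Q] (π : G →* Q) (hπ : Function.Surjective π) (hk : Group.IsSolvable π.ker)
    {A : Subgroup Q} {S : Type v} [Group S] (e : A ≃* S) :
    ∃ f : A.comap π →* S, Function.Surjective f ∧ (∀ z, f z = 1 ↔ π (z : G) = 1) ∧ Group.IsSolvable f.ker := by
  let f : A.comap π →* S := e.toMonoidHom.comp (π.subgroupComap A)
  have hker : ∀ z : A.comap π, f z = 1 ↔ π (z : G) = 1 := fun z => by
    show e (π.subgroupComap A z) = 1 ↔ _
    rw [map_eq_one_iff e e.injective]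
    exact Subtype.ext_iff
  refine ⟨f, e.surjective.comp fun a => ?_, hker, ?_⟩
  · obtain ⟨g, hg⟩ := hπ a
    exact ⟨⟨g, show π g ∈ A by rw [hg]; exact a.2⟩, Subtype.ext hg⟩
  · haveI := hk
    exact Group.isSolvable_of_isSolvable_injective (f := ((A.comap π).subtype.comp f.ker.subtype).codRestrict π.ker
      fun z => (hker z).mp z.2) fun a b h => Subtype.ext (Subtype.ext (congrArg (fun r : π.ker => (r : G)) h :))

theorem radical_quotient (G : Type u) [Group G] [Finite G] : solvableRadical (G ⧸ solvableRadical G) = ⊥ := by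
  set R := solvableRadical G
  haveI : Group.IsSolvable R := isSolvable_solvableRadical
  set M := solvableRadical (G ⧸ R)
  haveI : Group.IsSolvable M := isSolvable_solvableRadical
  haveI : (M.comap (QuotientGroup.mk' R)).Normal := (inferInstance : M.Normal).comap _
  let f : M.comap (QuotientGroup.mk' R) →* M := (QuotientGroup.mk' R).subgroupComap M
  have hle : R ≤ M.comap (QuotientGroup.mk' R) := fun k hk => by
    show QuotientGroup.mk' R k ∈ M
    rw [show QuotientGroup.mk' R k = 1 from (QuotientGroup.eq_one_iff k).mpr hk]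
    exact one_mem _
  have hPs : Group.IsSolvable (M.comap (QuotientGroup.mk' R)) :=
    Group.isSolvable_of_ker_le_range (Subgroup.inclusion hle) f fun n hn =>
      ⟨⟨(n : G), (QuotientGroup.eq_one_iff _).mp (congrArg Subtype.val (MonoidHom.mem_ker.mp hn))⟩, Subtype.ext rfl⟩
  have := le_solvableRadical hPs
  rw [eq_bot_iff]
  intro z hz
  obtain ⟨g, rfl⟩ := QuotientGroup.mk'_surjective R z
  exact Subgroup.mem_bot.mpr ((QuotientGroup.eq_one_iff g).mpr (this hz))

theorem center_eq_bot {K : Subgroup G} (hR : solvableRadical G = ⊥) (hK : IsComponent K) :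
    Subgroup.center K = ⊥ := by
  have hn : ((Subgroup.center K).map K.subtype).IsSubnormal :=
    (inferInstance : (Subgroup.center K).Normal).isSubnormal.trans' hK.1
  haveI : Group.IsSolvable (Subgroup.center K) :=
    Group.isSolvable_of_comm fun a b => Subtype.ext (Subgroup.mem_center_iff.mp b.2 (a : K))
  have hs : Group.IsSolvable ((Subgroup.center K).map K.subtype) :=
    Group.isSolvable_of_surjective (f := K.subtype.subgroupMap (Subgroup.center K))
      (K.subtype.subgroupMap_surjective _)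
  have := isSubnormal_solvable_le_radical hn hs
  rw [hR, le_bot_iff, Subgroup.map_eq_bot_iff_of_injective _ K.subtype_injective] at this
  exact this

theorem component_kind (h : Orders G) (hR : solvableRadical G = ⊥) {K : Subgroup G} (hK : IsComponent K) :
    Kind K := by
  refine classify (h.subgroup K) ?_ fun hcomm => ?_
  · have := hK.2.2
    exact ((QuotientGroup.quotientMulEquivOfEq (center_eq_bot hR hK)).trans
      QuotientGroup.quotientBot).isSimpleGroup_congr.mp this
  · exact isQuasisimple_not_isSolvable hK.2 (Group.isSolvable_of_comm fun a b => hcomm.is_comm.comm a b)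

theorem exists_elem {K : Subgroup G} {r : ℕ} (hr : r.Prime) (hd : r ∣ Nat.card K) : ∃ a ∈ K, orderOf a = r := by
  haveI := Fact.mk hr
  obtain ⟨a, ha⟩ := exists_prime_orderOf_dvd_card' r hd
  exact ⟨a, a.2, by rw [Subgroup.orderOf_coe, ha]⟩

theorem commute_of_ne {K L : Subgroup G} (hK : IsComponent K) (hL : IsComponent L) (hne : K ≠ L) {a b : G}
    (ha : a ∈ K) (hb : b ∈ L) : Commute a b :=
  commutatorElement_eq_one_iff_commute.mp (Subgroup.mem_bot.mp
    ((components_eq_or_commute hK hL).resolve_left hne ▸ Subgroup.commutator_mem_commutator ha hb))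

theorem centralizer_layer_eq_bot (hR : solvableRadical G = ⊥) :
    Subgroup.centralizer (layer G : Set G) = ⊥ := by
  have hfit : fittingSubgroup G = ⊥ := le_bot_iff.mp (fittingSubgroup_le_solvableRadical.trans hR.le)
  have hgen : generalizedFittingSubgroup G = layer G := by
    rw [show generalizedFittingSubgroup G = layer G ⊔ fittingSubgroup G from rfl, hfit, sup_bot_eq]
  have hle := centralizer_generalizedFitting_le (G := G)
  rw [hgen] at hle
  haveI : (layer G).Normal := Subgroup.normal_of_characteristic _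
  haveI : (Subgroup.centralizer (layer G : Set G)).Normal := Subgroup.normal_centralizer
  have hs : Group.IsSolvable (Subgroup.centralizer (layer G : Set G)) :=
    Group.isSolvable_of_comm fun a b => Subtype.ext (b.2 a (hle a.2))
  exact le_bot_iff.mp ((le_solvableRadical hs).trans hR.le)

theorem eq_one_of_commute_layer (hR : solvableRadical G = ⊥) {d : G}
    (hd : ∀ L : Subgroup G, IsComponent L → ∀ a ∈ L, Commute a d) : d = 1 := by
  refine Subgroup.mem_bot.mp (centralizer_layer_eq_bot hR ▸ ?_)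
  have hle : layer G ≤ Subgroup.centralizer ({d} : Set G) :=
    sSup_le fun L hL a ha => Subgroup.mem_centralizer_singleton_iff.mpr (hd L hL a ha).eq
  exact fun a ha => Subgroup.mem_centralizer_singleton_iff.mp (hle ha)

theorem exists_component (hR : solvableRadical G = ⊥) (hns : ¬ Group.IsSolvable G) :
    ∃ K : Subgroup G, IsComponent K := by
  by_contra hcon
  push Not at hcon
  have hall : ∀ g : G, g = 1 := fun g => eq_one_of_commute_layer hR fun L hL => absurd hL (hcon L)
  exact hns (Group.isSolvable_of_comm fun a b => by rw [hall a, hall b])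

theorem conj_component {L : Subgroup G} (hL : IsComponent L) (x : G) :
    IsComponent (L.map (MulAut.conj x).toMonoidHom) :=
  isComponent_map_equiv (MulAut.conj x) hL

theorem card_conj (L : Subgroup G) (x : G) : Nat.card (L.map (MulAut.conj x).toMonoidHom) = Nat.card L :=
  Subgroup.card_map_of_injective (MulAut.conj x).injective

theorem map_conj_mul (M : Subgroup G) (p q : G) : M.map (MulAut.conj (p * q)).toMonoidHom =
    (M.map (MulAut.conj q).toMonoidHom).map (MulAut.conj p).toMonoidHom := by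
  rw [Subgroup.map_map]
  congr 1
  ext z
  simp [mul_assoc]

theorem mem_normalizer_of_map {L : Subgroup G} {x : G} (e : L.map (MulAut.conj x).toMonoidHom = L) :
    x ∈ Subgroup.normalizer (L : Set G) := by
  refine Subgroup.mem_normalizer_fintype fun a ha => ?_
  rw [SetLike.mem_coe] at ha ⊢
  rw [← e]
  exact ⟨a, ha, rfl⟩

/-! ### Bounds -/

theorem no_three_janko (h : Orders G) {J J' K : Subgroup G} (hJ : IsComponent J) (hJ' : IsComponent J')
    (hK : IsComponent K) (hk : Kind K) (c1 : Nat.card J = 175560) (c2 : Nat.card J' = 175560) (n1 : J ≠ J')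
    (n2 : J ≠ K) (n3 : J' ≠ K) : False := by
  obtain ⟨a, ha, hao⟩ := exists_elem (K := J) (r := 7) (by norm_num) (by rw [c1]; norm_num)
  obtain ⟨b, hb, hbo⟩ := exists_elem (K := J') (r := 11) (by norm_num) (by rw [c2]; norm_num)
  obtain ⟨c, hc, hco⟩ := exists_elem (K := K) Nat.prime_two (by rcases hk.card with e | e | e <;> rw [e] <;> norm_num)
  exact h.triple (r := 7) (s := 11) (t := 2) (by norm_num) (by norm_num) Nat.prime_two (hao ▸ dvd_rfl) (hbo ▸ dvd_rfl)
    (hco ▸ dvd_rfl) (commute_of_ne hJ hJ' n1 ha hb) (commute_of_ne hJ hK n2 ha hc) (commute_of_ne hJ' hK n3 hb hc)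
    (by decide) (by decide) (by decide)

theorem no_three_linear (h : Orders G) {L L' K : Subgroup G} (hL : IsComponent L) (hL' : IsComponent L')
    (hK : IsComponent K) (hk : Kind K) (kL : IsL L) (kL' : IsL L') (n1 : L ≠ L')
    (n2 : L ≠ K) (n3 : L' ≠ K) : False := by
  obtain ⟨a, ha, hao⟩ := exists_elem (K := L) (r := 11) (by norm_num) (by rw [kL.card]; norm_num)
  obtain ⟨b, hb⟩ := kL'.exists_six
  obtain ⟨c, hc, hco⟩ := exists_elem (K := K) (r := 5) (by norm_num)
    (by rcases hk.card with e | e | e <;> rw [e] <;> norm_num)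
  have hbo : orderOf (b : G) = 6 := by rw [Subgroup.orderOf_coe, hb]
  exact h.quad (x := 11) (by simp) (a := (b : G)) (b := (b : G)) (c := c) (d := a)
    (by rw [hbo]; norm_num) (by rw [hbo]; norm_num) (hco ▸ dvd_rfl) (hao ▸ dvd_rfl) (Commute.refl _)
    (commute_of_ne hL' hK n3 b.2 hc) (commute_of_ne hL' hL n1.symm b.2 ha)
    (commute_of_ne hL' hK n3 b.2 hc) (commute_of_ne hL' hL n1.symm b.2 ha) (commute_of_ne hK hL n2.symm hc ha)

theorem no_four (h : Orders G) {J K₁ K₂ K₃ : Subgroup G} (hJ : IsComponent J) (h1 : IsComponent K₁)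
    (h2 : IsComponent K₂) (h3 : IsComponent K₃) (k1 : Kind K₁) (k2 : Kind K₂) (k3 : Kind K₃)
    (cJ : Nat.card J = 660 ∨ Nat.card J = 175560) (m1 : J ≠ K₁) (m2 : J ≠ K₂) (m3 : J ≠ K₃) (n3 : K₁ ≠ K₂)
    (n2 : K₁ ≠ K₃) (n1 : K₂ ≠ K₃) : False := by
  obtain ⟨a, ha, hao⟩ := exists_elem (K := K₁) Nat.prime_two (by rcases k1.card with e | e | e <;> rw [e] <;> norm_num)
  obtain ⟨b, hb, hbo⟩ := exists_elem (K := K₂) Nat.prime_three
    (by rcases k2.card with e | e | e <;> rw [e] <;> norm_num)
  obtain ⟨c, hc, hco⟩ := exists_elem (K := K₃) (r := 5) (by norm_num)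
    (by rcases k3.card with e | e | e <;> rw [e] <;> norm_num)
  obtain ⟨d, hd, hdo⟩ := exists_elem (K := J) (r := 11) (by norm_num)
    (by rcases cJ with e | e <;> rw [e] <;> norm_num)
  exact h.quad (x := 11) (by simp) (hao ▸ dvd_rfl) (hbo ▸ dvd_rfl) (hco ▸ dvd_rfl) (hdo ▸ dvd_rfl)
    (commute_of_ne h1 h2 n3 ha hb) (commute_of_ne h1 h3 n2 ha hc) (commute_of_ne h1 hJ m1.symm ha hd)
    (commute_of_ne h2 h3 n1 hb hc) (commute_of_ne h2 hJ m2.symm hb hd) (commute_of_ne h3 hJ m3.symm hc hd)

/-- An element of order at most two fixes every component. -/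
theorem invol_fixes (h : Orders G) (hR : solvableRadical G = ⊥) {x : G} (hx : x * x = 1) {K : Subgroup G}
    (hK : IsComponent K) : K.map (MulAut.conj x).toMonoidHom = K := by
  by_contra hne
  obtain ⟨t, ht, hto⟩ := exists_elem (K := K) Nat.prime_two
    (by rcases (component_kind h hR hK).card with e | e | e <;> rw [e] <;> norm_num)
  have hxt : x * t * x⁻¹ ∈ K.map (MulAut.conj x).toMonoidHom := ⟨t, ht, rfl⟩
  have hc : Commute t (x * t * x⁻¹) := commute_of_ne hK (conj_component hK x) (Ne.symm hne) ht hxt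
  have hxi : x⁻¹ = x := inv_eq_of_mul_eq_one_right hx
  have ht2 : t * t = 1 := by rw [← pow_two, ← hto, pow_orderOf_eq_one]
  have e2 : (t * x) ^ 2 = t * (x * t * x⁻¹) := by rw [hxi, pow_two]; group
  have hne1 : (t * x) ^ 2 ≠ 1 := fun e => by
    rw [e2] at e
    have h1 : x * t * x⁻¹ = t := by rw [eq_inv_of_mul_eq_one_right e]; exact inv_eq_of_mul_eq_one_right ht2
    have htz : (⟨t, ht⟩ : K) ∈ Subgroup.center K := Subgroup.mem_center_iff.mpr fun z => Subtype.ext
      (commute_of_ne hK (conj_component hK x) (Ne.symm hne) z.2 (b := t) (by rw [← h1]; exact hxt)).eq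
    rw [center_eq_bot hR hK, Subgroup.mem_bot] at htz
    rw [show t = 1 from congrArg Subtype.val htz, orderOf_one] at hto
    norm_num at hto
  have e4 : (t * x) ^ 2 ^ 2 = 1 := by
    rw [show (2 : ℕ) ^ 2 = 2 * 2 by norm_num, pow_mul, e2, hc.mul_pow, pow_two, pow_two, ht2, one_mul,
      show x * t * x⁻¹ * (x * t * x⁻¹) = x * (t * t) * x⁻¹ by group, ht2, mul_one, mul_inv_cancel]
  exact hne1 (h.pow_prime Nat.prime_two (k := 2) e4)

omit [Finite G] in
theorem exists_odd_pow [Finite G] (h : Orders G) (x : G) : ∃ d : ℕ, Odd d ∧ x ^ d * x ^ d = 1 := by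
  rcases Nat.even_or_odd (orderOf x) with ⟨d, hd⟩ | hodd
  · refine ⟨d, Nat.not_even_iff_odd.mp fun ⟨e, he⟩ => h.sqfree x 2 Nat.prime_two ⟨e, by omega⟩, ?_⟩
    rw [← pow_add, ← hd, pow_orderOf_eq_one]
  · exact ⟨orderOf x, hodd, by rw [pow_orderOf_eq_one, one_mul]⟩

/-- Where `J1` or `L2(11)` occurs every element fixes every component. -/
theorem all_fix (h : Orders G) (hR : solvableRadical G = ⊥) {J : Subgroup G} (hJ : IsComponent J)
    (cJ : Nat.card J = 660 ∨ Nat.card J = 175560) (x : G) {K : Subgroup G} (hK : IsComponent K) :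
    K.map (MulAut.conj x).toMonoidHom = K := by
  have hsq : ∀ (y : G) (K : Subgroup G), IsComponent K → K.map (MulAut.conj (y * y)).toMonoidHom = K := by
    intro y K hK
    by_contra hne
    set K1 := K.map (MulAut.conj y).toMonoidHom with hK1
    have e2 : K.map (MulAut.conj (y * y)).toMonoidHom = K1.map (MulAut.conj y).toMonoidHom := map_conj_mul K y y
    rw [e2] at hne
    set K2 := K1.map (MulAut.conj y).toMonoidHom with hK2
    have n1 : K ≠ K1 := fun e => hne (by rw [hK2, ← e, ← hK1, ← e])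
    have n3 : K1 ≠ K2 := fun e => n1 (Subgroup.map_injective (MulAut.conj y).injective (hK1.symm.trans (e.trans hK2)))
    have n2 : K ≠ K2 := fun e => hne e.symm
    have c1 : Nat.card K1 = Nat.card K := card_conj K y
    have c2 : Nat.card K2 = Nat.card K := (card_conj K1 y).trans c1
    have k0 := component_kind h hR hK
    have hK1c := conj_component hK y
    have hK2c := conj_component hK1c y
    have k1 := component_kind h hR hK1c
    have k2 := component_kind h hR hK2c
    rcases k0 with kA | kL | kJ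
    · have hJK : ∀ M : Subgroup G, Nat.card M = Nat.card K → J ≠ M := fun M hM e => by
        rw [e, hM, kA.card] at cJ
        omega
      exact no_four h hJ hK hK1c hK2c (Or.inl kA) k1 k2 cJ (hJK K rfl) (hJK K1 c1) (hJK K2 c2) n1 n2 n3
    · refine no_three_linear h hK hK1c hK2c k2 kL ?_ n1 n2 n3
      rcases k1 with k | k | k
      · rw [k.card, kL.card] at c1; norm_num at c1
      · exact k
      · rw [k.card, kL.card] at c1; norm_num at c1
    · exact no_three_janko h hK hK1c hK2c k2 kJ.card (c1.trans kJ.card) n1 n2 n3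
  obtain ⟨d, ⟨i, hi⟩, hd2⟩ := exists_odd_pow h x
  have e1 : x ^ d = x * (x ^ i * x ^ i) := by rw [hi, ← pow_add, ← pow_succ']; congr 1; omega
  have := invol_fixes h hR hd2 hK
  rwa [e1, map_conj_mul, hsq (x ^ i) K hK] at this

/-! ### The layer -/

/-- The components of a finite group, as a finite set. -/
noncomputable def comps (G : Type u) [Group G] [Finite G] : Finset (Subgroup G) :=
  (Set.toFinite {L : Subgroup G | IsComponent L}).toFinset

theorem mem_comps {L : Subgroup G} : L ∈ comps G ↔ IsComponent L := Set.Finite.mem_toFinset _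

theorem sup_comps : (comps G).sup id = layer G := by
  refine le_antisymm (Finset.sup_le fun L hL => le_layer (mem_comps.mp hL)) (sSup_le fun L hL => ?_)
  exact Finset.le_sup (f := id) (mem_comps.mpr hL)

theorem sup_commute {s : Finset (Subgroup G)} (hs : ∀ L ∈ s, IsComponent L) {K : Subgroup G} (hK : IsComponent K)
    (hKs : K ∉ s) {a g : G} (ha : a ∈ K) (hg : g ∈ s.sup id) : Commute a g := by
  have hle : s.sup id ≤ Subgroup.centralizer (K : Set G) := Finset.sup_le fun L hL b hb =>
    Subgroup.mem_centralizer_iff.mpr fun c hc =>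
      (commute_of_ne hK (hs L hL) (fun e => hKs (e ▸ hL)) hc hb).eq
  exact Subgroup.mem_centralizer_iff.mp (hle hg) a ha

theorem split (hR : solvableRadical G = ⊥) {s : Finset (Subgroup G)} (hs : ∀ L ∈ s, IsComponent L) {K : Subgroup G}
    (hK : IsComponent K) (hKs : K ∉ s) {g : G} (hg : g ∈ K ⊔ s.sup id) :
    ∃ k ∈ K, ∃ g' ∈ s.sup id, g = k * g' ∧ ∀ n : ℕ, g ^ n = 1 → k ^ n = 1 ∧ g' ^ n = 1 := by
  let φ : K × (s.sup id : Subgroup G) →* G :=
    MonoidHom.noncommCoprod K.subtype (s.sup id).subtype fun a b => sup_commute hs hK hKs a.2 b.2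
  have hle : K ⊔ s.sup id ≤ φ.range :=
    sup_le (fun a ha => ⟨(⟨a, ha⟩, 1), mul_one a⟩) (fun b hb => ⟨(1, ⟨b, hb⟩), one_mul b⟩)
  obtain ⟨⟨k, g'⟩, rfl⟩ := hle hg
  refine ⟨k, k.2, g', g'.2, rfl, fun n hn => ?_⟩
  change ((k : G) * (g' : G)) ^ n = 1 at hn
  rw [(sup_commute hs hK hKs k.2 g'.2).mul_pow] at hn
  have hz : (⟨(k : G) ^ n, pow_mem k.2 n⟩ : K) ∈ Subgroup.center K :=
    Subgroup.mem_center_iff.mpr fun z => Subtype.ext (by
      refine (sup_commute hs hK hKs z.2 (g := (k : G) ^ n) ?_).eq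
      rw [eq_inv_of_mul_eq_one_left hn]
      exact inv_mem (pow_mem g'.2 n))
  rw [center_eq_bot hR hK, Subgroup.mem_bot] at hz
  have hk : (k : G) ^ n = 1 := congrArg Subtype.val hz
  exact ⟨hk, by rwa [hk, one_mul] at hn⟩

/-- An element acting on every component as an inner automorphism lies in the layer. -/
theorem inner_all (hR : solvableRadical G = ⊥) {x : G}
    (hx : ∀ K : Subgroup G, IsComponent K → ∃ k ∈ K, ∀ a ∈ K, Commute a (k⁻¹ * x)) : x ∈ layer G := by
  classical
  suffices h : ∀ s : Finset (Subgroup G), s ⊆ comps G →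
      ∃ k ∈ s.sup id, ∀ K ∈ s, ∀ a ∈ K, Commute a (k⁻¹ * x) by
    obtain ⟨k, hk, hc⟩ := h (comps G) le_rfl
    have h1 := eq_one_of_commute_layer hR fun L hL => hc L (mem_comps.mpr hL)
    rw [sup_comps] at hk
    rwa [← inv_mul_eq_one.mp h1]
  intro s
  induction s using Finset.induction_on with
  | empty => exact fun _ => ⟨1, one_mem _, fun K hK => absurd hK (Finset.notMem_empty K)⟩
  | @insert K s hKs ih =>
    intro hsub
    rw [Finset.insert_subset_iff] at hsub
    have hs : ∀ L ∈ s, IsComponent L := fun L hL => mem_comps.mp (hsub.2 hL)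
    have hK := mem_comps.mp hsub.1
    obtain ⟨k', hk', hc'⟩ := ih hsub.2
    obtain ⟨k, hk, hc⟩ := hx K hK
    refine ⟨k' * k, ?_, fun L hL a ha => ?_⟩
    · rw [Finset.sup_insert]
      exact mul_mem (Subgroup.mem_sup_right hk') (Subgroup.mem_sup_left hk)
    · rcases Finset.mem_insert.mp hL with rfl | hL
      · rw [show (k' * k)⁻¹ * x = k⁻¹ * k'⁻¹ * x by group,
          (sup_commute hs hK hKs (inv_mem hk) (inv_mem hk')).eq, mul_assoc]
        exact ((sup_commute hs hK hKs ha (inv_mem hk'))).mul_right (hc a ha)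
      · rw [show (k' * k)⁻¹ * x = k⁻¹ * (k'⁻¹ * x) by group]
        exact ((commute_of_ne (hs L hL) hK (fun e => hKs (e ▸ hL)) ha (inv_mem hk))).mul_right (hc' L hL a ha)

/-- The square of an element fixing every component lies in the layer. -/
theorem sq_mem_layer (h : Orders G) (hR : solvableRadical G = ⊥) {x : G}
    (hx : ∀ K : Subgroup G, IsComponent K → K.map (MulAut.conj x).toMonoidHom = K) : x * x ∈ layer G := by
  refine inner_all hR fun K hK => ?_
  have hxN := mem_normalizer_of_map (hx K hK)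
  obtain ⟨k, hk⟩ := (component_kind h hR hK).sq_inner (K.normalizerMonoidHom ⟨x, hxN⟩)
  refine ⟨k, k.2, fun a ha => ?_⟩
  have h1 : x * (x * a * x⁻¹) * x⁻¹ = k * a * (k : G)⁻¹ :=
    (congrArg Subtype.val (DFunLike.congr_fun hk (⟨a, ha⟩ : K)) : _)
  show a * ((k : G)⁻¹ * (x * x)) = (k : G)⁻¹ * (x * x) * a
  calc a * ((k : G)⁻¹ * (x * x)) = (k : G)⁻¹ * (k * a * (k : G)⁻¹) * (x * x) := by group
    _ = (k : G)⁻¹ * (x * (x * a * x⁻¹) * x⁻¹) * (x * x) := by rw [h1]
    _ = (k : G)⁻¹ * (x * x) * a := by group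

/-- Where every element fixes every component, odd elements lie in the layer. -/
theorem odd_mem (h : Orders G) (hR : solvableRadical G = ⊥)
    (hfix : ∀ (x : G) (K : Subgroup G), IsComponent K → K.map (MulAut.conj x).toMonoidHom = K) {y : G} {n : ℕ}
    (hn : Odd n) (hy : y ^ n = 1) : y ∈ layer G := by
  obtain ⟨i, hi⟩ := hn
  have e : y = ((y * y) ^ i)⁻¹ := by
    refine eq_inv_of_mul_eq_one_left ?_
    rw [← hy, hi, ← pow_two, ← pow_mul, ← pow_succ']
  rw [e]
  exact inv_mem (pow_mem (sq_mem_layer h hR (fun K hK => hfix y K hK)) i)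

/-- An element of the layer of prime order lies in the component which alone has that prime. -/
theorem mem_of_prime (hR : solvableRadical G = ⊥) {q : ℕ} (hq : q.Prime) (J : Subgroup G)
    (hother : ∀ K : Subgroup G, IsComponent K → K ≠ J → ¬ q ∣ Nat.card K) {y : G} (hy : y ∈ layer G)
    (hyq : y ^ q = 1) : y ∈ J := by
  classical
  haveI := Fact.mk hq
  suffices h : ∀ s : Finset (Subgroup G), s ⊆ comps G → ∀ y ∈ s.sup id, y ^ q = 1 → y ∈ J by
    exact h (comps G) le_rfl y (by rwa [sup_comps]) hyq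
  intro s
  induction s using Finset.induction_on with
  | empty =>
    intro _ y hy _
    rw [Finset.sup_empty, Subgroup.mem_bot] at hy
    exact hy ▸ one_mem _
  | @insert K s hKs ih =>
    intro hsub y hy hyq
    rw [Finset.insert_subset_iff] at hsub
    have hs : ∀ L ∈ s, IsComponent L := fun L hL => mem_comps.mp (hsub.2 hL)
    have hK := mem_comps.mp hsub.1
    rw [Finset.sup_insert, id] at hy
    obtain ⟨k, hk, g', hg', rfl, hpow⟩ := split hR hs hK hKs hy
    obtain ⟨hk1, hg1⟩ := hpow q hyq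
    refine mul_mem ?_ (ih hsub.2 g' hg' hg1)
    by_cases hKJ : K = J
    · exact hKJ ▸ hk
    · by_contra hkJ
      have hk' : k ≠ 1 := fun e => hkJ (e ▸ one_mem _)
      exact hother K hK hKJ (orderOf_eq_prime hk1 hk' ▸ Subgroup.orderOf_dvd_natCard K hk)

/-- Without `J1` the elements of exponent 55 of the layer are conjugate into a solvable subgroup. -/
theorem exists_borel (h : Orders G) (hR : solvableRadical G = ⊥)
    (hnoJ : ∀ K : Subgroup G, IsComponent K → ¬ IsJ K) :
    ∃ H : Subgroup G, Group.IsSolvable H ∧ H ≤ layer G ∧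
      ∀ g ∈ layer G, g ^ 55 = 1 → ∃ c ∈ layer G, c * g * c⁻¹ ∈ H := by
  classical
  suffices key : ∀ s : Finset (Subgroup G), s ⊆ comps G → ∃ H : Subgroup G, Group.IsSolvable H ∧ H ≤ s.sup id ∧
      ∀ g ∈ s.sup id, g ^ 55 = 1 → ∃ c ∈ s.sup id, c * g * c⁻¹ ∈ H by
    have := key (comps G) le_rfl
    rwa [sup_comps] at this
  intro s
  induction s using Finset.induction_on with
  | empty =>
    refine fun _ => ⟨⊥, inferInstance, bot_le, fun g hg _ => ⟨1, one_mem _, ?_⟩⟩
    rw [Finset.sup_empty, Subgroup.mem_bot] at hg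
    simp [hg]
  | @insert K s hKs ih =>
    intro hsub
    rw [Finset.insert_subset_iff] at hsub
    have hs : ∀ L ∈ s, IsComponent L := fun L hL => mem_comps.mp (hsub.2 hL)
    have hK := mem_comps.mp hsub.1
    obtain ⟨H, hH, hHle, hconj⟩ := ih hsub.2
    have hk : IsA K ∨ IsL K := (component_kind h hR hK).imp id fun e => e.resolve_right (hnoJ K hK)
    obtain ⟨B, hB, hBconj⟩ := hk.elim IsA.exists_borel IsL.exists_borel
    let φ : B × H →* G := MonoidHom.noncommCoprod (K.subtype.comp B.subtype) H.subtype fun a b =>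
      sup_commute hs hK hKs (a : K).2 (hHle b.2)
    haveI := hH
    haveI := hB
    refine ⟨φ.range, Group.isSolvable_of_surjective (f := φ.rangeRestrict) φ.rangeRestrict_surjective, ?_, ?_⟩
    · rintro _ ⟨⟨a, b⟩, rfl⟩
      rw [Finset.sup_insert]
      exact mul_mem (Subgroup.mem_sup_left (a : K).2) (Subgroup.mem_sup_right (hHle b.2))
    · intro g hg hg55
      rw [Finset.sup_insert, id] at hg
      obtain ⟨k, hk', g', hg', rfl, hpow⟩ := split hR hs hK hKs hg
      obtain ⟨hk1, hg1⟩ := hpow 55 hg55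
      obtain ⟨c', hc', hcg'⟩ := hconj g' hg' hg1
      have hko : orderOf (⟨k, hk'⟩ : K) ∈ [1, 5, 11, 55] := by
        have hd : orderOf (⟨k, hk'⟩ : K) ∣ 55 := orderOf_dvd_of_pow_eq_one (Subtype.ext (by simpa using hk1))
        exact (by decide : ∀ d ∈ Nat.divisors 55, d ∈ [1, 5, 11, 55]) _ (Nat.mem_divisors.mpr ⟨hd, by norm_num⟩)
      obtain ⟨c, hc⟩ : ∃ c : K, c * ⟨k, hk'⟩ * c⁻¹ ∈ B := by
        simp only [List.mem_cons, List.not_mem_nil, or_false] at hko
        rcases hko with e | e | e | e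
        · exact ⟨1, by rw [orderOf_eq_one_iff.mp e]; simp⟩
        · exact hBconj _ (Or.inl e)
        · exact hBconj _ (Or.inr e)
        · exfalso
          rcases hk with k1 | k1
          · have := orderOf_dvd_natCard (⟨k, hk'⟩ : K)
            rw [e, k1.card] at this
            norm_num at this
          · exact k1.no_fifty_five _ e
      refine ⟨(c : G) * c', ?_, (⟨c * ⟨k, hk'⟩ * c⁻¹, hc⟩, ⟨c' * g' * c'⁻¹, hcg'⟩), ?_⟩
      · rw [Finset.sup_insert]
        exact mul_mem (Subgroup.mem_sup_left c.2) (Subgroup.mem_sup_right hc')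
      · show ((c * ⟨k, hk'⟩ * c⁻¹ : K) : G) * (c' * g' * c'⁻¹) = (c : G) * c' * (k * g') * ((c : G) * c')⁻¹
        have e1 : k * c' = c' * k := (sup_commute hs hK hKs hk' hc').eq
        have e2 : (c : G)⁻¹ * (c' * g' * c'⁻¹) = c' * g' * c'⁻¹ * (c : G)⁻¹ :=
          (sup_commute hs hK hKs (inv_mem c.2) (mul_mem (mul_mem hc' hg') (inv_mem hc'))).eq
        calc ((c * ⟨k, hk'⟩ * c⁻¹ : K) : G) * (c' * g' * c'⁻¹)
            = (c : G) * k * ((c : G)⁻¹ * (c' * g' * c'⁻¹)) := by push_cast; group
          _ = (c : G) * (k * c') * g' * c'⁻¹ * (c : G)⁻¹ := by rw [e2]; group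
          _ = (c : G) * c' * (k * g') * ((c : G) * c')⁻¹ := by rw [e1]; group

end CfsgLib.J1Square
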