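import Cfsg.Agent.Lib.J1Square.Tools
import Cfsg.Agent.Lib.J1.Outer
import Cfsg.Agent.Lib.J1.Order
import Cfsg.Agent.Lib.J1Unique.Iso
import Cfsg.Agent.Lib.SmallOrders.J175560.Centralizer
import Cfsg.Agent.Lib.PSL2Spectrum
import Cfsg.Agent.Lib.PConj.AutEmb
import Cfsg.Agent.Lib.Homogeneous.Models
import Cfsg.Agent.Lib.DegreeGraphSmall.Sections
import Cfsg.Agent.Lib.Walter.Ab.Main
import Cfsg.Agent.Lib.Walter.Main
import Cfsg.Agent.S0252
import Cfsg.Agent.S0253

/-!
The simple groups inside the spectrum of the square of the first Janko group, and their used properties.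
-/

set_option autoImplicit false
set_option maxHeartbeats 1000000
set_option linter.unusedSectionVars false
set_option linter.style.haveILetI false

namespace CfsgLib.J1Square

universe u v

local notation "PSL₂[" F "]" => Matrix.ProjectiveSpecialLinearGroup (Fin 2) F

/-- The alternating group of degree five. -/
def IsA (K : Type u) [Group K] : Prop := Nonempty (K ≃* PSL₂[ZMod 5])

/-- The linear group of order 660. -/
def IsL (K : Type u) [Group K] : Prop := ∃ _ : Fact (Nat.Prime 11), Nonempty (K ≃* PSL₂[ZMod 11])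

/-- The first Janko group. -/
def IsJ (K : Type u) [Group K] : Prop := Nonempty (K ≃* ↥Cfsg.Spor.J1)

instance fact5 : Fact (Nat.Prime 5) := ⟨by norm_num⟩
instance fact11 : Fact (Nat.Prime 11) := ⟨by norm_num⟩

section Psl

theorem card_psl {p : ℕ} [Fact p.Prime] : Nat.gcd 2 (p - 1) * Nat.card PSL₂[ZMod p] = p * (p ^ 2 - 1) := by
  have h := DicksonFull.card_psl (F := ZMod p)
  rwa [ZMod.card p] at h

theorem card_psl5 : Nat.card PSL₂[ZMod 5] = 60 := by
  have h : 2 * Nat.card PSL₂[ZMod 5] = 120 := card_psl (p := 5)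
  omega

theorem card_psl11 : Nat.card PSL₂[ZMod 11] = 660 := by
  have h : 2 * Nat.card PSL₂[ZMod 11] = 1320 := card_psl (p := 11)
  omega

theorem simp_psl {p : ℕ} [Fact p.Prime] (h : 3 < p) : Simp PSL₂[ZMod p] := by
  have h3 : 3 < Fintype.card (ZMod p) := by rwa [ZMod.card p]
  refine ⟨JankoReeMult.psl_simple h3, ?_⟩
  by_contra hcon
  push Not at hcon
  refine JankoReeMult.psl_nonabelian ?_ h3 ⟨⟨hcon⟩⟩
  rw [ZMod.card p]
  exact (Fact.out : p.Prime).odd_of_ne_two (by omega)

theorem sq_inner_psl {p : ℕ} [Fact p.Prime] (φ : MulAut PSL₂[ZMod p]) :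
    ∃ x : PSL₂[ZMod p], φ * φ = MulAut.conj x := by
  obtain ⟨g, hg⟩ := PSL2.exists_of_fieldPart_eq_one p (φ := φ) (RingEquiv.ext fun x => by
    have : ((PSL2.fieldPart p φ : ZMod p ≃+* ZMod p) : ZMod p →+* ZMod p) = RingHom.id _ := Subsingleton.elim _ _
    exact congrArg (fun f : ZMod p →+* ZMod p => f x) this)
  obtain ⟨x, hx⟩ := PConj.diag_sq_inner g
  exact ⟨x, by rw [hg, ← map_mul, hx]⟩

end Psl

section Transfer

variable {K : Type u} [Group K]

theorem Simp.congr {M : Type v} [Group M] (h : Simp M) (e : K ≃* M) : Simp K := by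
  refine ⟨e.isSimpleGroup_congr.mpr h.1, ?_⟩
  obtain ⟨a, b, hab⟩ := h.2
  exact ⟨e.symm a, e.symm b, fun h' => hab (e.symm.injective (by rw [map_mul, map_mul, h']))⟩

theorem inner_congr {M : Type v} [Group M] (e : K ≃* M) {φ : MulAut K} {x : M}
    (h : MulAut.congr e φ = MulAut.conj x) : φ = MulAut.conj (e.symm x) := by
  refine MulEquiv.ext fun a => e.injective ?_
  have := DFunLike.congr_fun h (e a)
  simpa [MulAut.congr] using this

end Transfer

theorem finite_J : Finite ↥Cfsg.Spor.J1 := J1.finite_J1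

theorem simp_J : Simp ↥Cfsg.Spor.J1 := by
  refine ⟨J1.isJ1.1, ?_⟩
  by_contra hcon
  push Not at hcon
  haveI := J1.isJ1.1
  letI : CommGroup ↥Cfsg.Spor.J1 := { (inferInstance : Group ↥Cfsg.Spor.J1) with mul_comm := hcon }
  have h := IsSimpleGroup.prime_card (α := ↥Cfsg.Spor.J1)
  rw [J1.card_J1] at h
  norm_num at h

theorem out_J (φ : MulAut ↥Cfsg.Spor.J1) : ∃ x, φ = MulAut.conj x := by
  have h1 := J1.card_out_J1
  have h2 : (QuotientGroup.mk φ : Cfsg.Out ↥Cfsg.Spor.J1) = 1 :=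
    (Nat.card_eq_one_iff_unique.mp h1).1.elim _ _
  obtain ⟨x, hx⟩ := (QuotientGroup.eq_one_iff φ).mp h2
  exact ⟨x, hx.symm⟩

/-! ### The three types -/

section Types

variable {K : Type u} [Group K]

theorem IsA.card (h : IsA K) : Nat.card K = 60 := by
  obtain ⟨e⟩ := h; rw [Nat.card_congr e.toEquiv, card_psl5]

theorem IsL.card (h : IsL K) : Nat.card K = 660 := by
  obtain ⟨-, ⟨e⟩⟩ := h; rw [Nat.card_congr e.toEquiv, card_psl11]

theorem IsJ.card (h : IsJ K) : Nat.card K = 175560 := by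
  obtain ⟨e⟩ := h; rw [Nat.card_congr e.toEquiv, J1.card_J1]

theorem IsA.simp (h : IsA K) : Simp K := by
  obtain ⟨e⟩ := h; exact (simp_psl (by norm_num)).congr e

theorem IsL.simp (h : IsL K) : Simp K := by
  obtain ⟨-, ⟨e⟩⟩ := h; exact (simp_psl (by norm_num)).congr e

theorem IsJ.simp (h : IsJ K) : Simp K := by
  obtain ⟨e⟩ := h; exact simp_J.congr e

theorem IsA.sq_inner (h : IsA K) (φ : MulAut K) : ∃ x : K, φ * φ = MulAut.conj x := by
  obtain ⟨e⟩ := h
  obtain ⟨x, hx⟩ := sq_inner_psl (MulAut.congr e φ)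
  exact ⟨_, inner_congr e (by rw [map_mul, hx])⟩

theorem IsL.sq_inner (h : IsL K) (φ : MulAut K) : ∃ x : K, φ * φ = MulAut.conj x := by
  obtain ⟨-, ⟨e⟩⟩ := h
  obtain ⟨x, hx⟩ := sq_inner_psl (MulAut.congr e φ)
  exact ⟨_, inner_congr e (by rw [map_mul, hx])⟩

theorem IsJ.inner (h : IsJ K) (φ : MulAut K) : ∃ x : K, φ = MulAut.conj x := by
  obtain ⟨e⟩ := h
  obtain ⟨x, hx⟩ := out_J (MulAut.congr e φ)
  exact ⟨_, inner_congr e hx⟩

theorem IsJ.exists_exponent (h : IsJ K) (g : K) : ∃ e ∈ J1.expo, orderOf g ∣ e := by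
  obtain ⟨f⟩ := h
  obtain ⟨e, he, hpow⟩ := J1.exists_exponent (g := (f g : GL (Fin 7) (ZMod 11))) (f g).2
  refine ⟨e, he, ?_⟩
  rw [← f.orderOf_eq, ← Subgroup.orderOf_coe]
  exact orderOf_dvd_of_pow_eq_one hpow

theorem IsL.exists_six (h : IsL K) : ∃ g : K, orderOf g = 6 := by
  obtain ⟨-, ⟨e⟩⟩ := h
  haveI : CharP (ZMod 11) 11 := ZMod.charP 11
  obtain ⟨x, hx⟩ := (PSL2Spectrum.psl_orders (F := ZMod 11) 11 6).mpr (Or.inr (Or.inl (by rw [ZMod.card 11]; decide)))
  exact ⟨e.symm x, by rw [MulEquiv.orderOf_eq, hx]⟩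

theorem IsJ.exists_ten (h : IsJ K) : ∃ g : K, orderOf g = 10 := by
  obtain ⟨e⟩ := h
  obtain ⟨g, hg, ho⟩ := J1.exists_orderOf (n := 10) (by decide)
  exact ⟨e.symm ⟨g, hg⟩, by rw [MulEquiv.orderOf_eq, ← Subgroup.orderOf_coe]; exact ho⟩

end Types

/-! ### Frobenius subgroups of `J1` -/

section JFrob

variable {K : Type u} [Group K] [Finite K]

theorem IsJ.frob_eight (h : IsJ K) : ∃ (E : Subgroup K) (t : K), Frob K 2 7 E t ∧ Nat.card E = 8 := by
  haveI : Fact (Nat.Prime 2) := ⟨Nat.prime_two⟩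
  haveI := h.simp.1
  obtain ⟨S⟩ : Nonempty (Sylow 2 K) := inferInstance
  have h8 := SmallOrders.J175560.card_sylow_two h.card S
  obtain ⟨g, hgN, hg, hfree⟩ := SmallOrders.J175560.exists_seven h.card S
  refine ⟨(S : Subgroup K), g, ⟨S.2, ?_, hgN, hg, fun j hj hj7 e he hc => ?_⟩, h8⟩
  · refine (Subgroup.bot_or_exists_ne_one _).resolve_left fun e => ?_
    rw [e, Subgroup.card_bot] at h8
    norm_num at h8
  · by_contra he1
    obtain ⟨i, hi⟩ := exists_pow_eq_self_of_coprime (x := g) (n := j) (by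
      rw [hg]
      exact ((show Nat.Prime 7 by norm_num).coprime_iff_not_dvd.mpr fun hd => by
        have := Nat.le_of_dvd hj hd; omega).symm)
    have := hc.pow_left i
    rw [hi] at this
    exact hfree e he he1 this.eq

theorem index_arith : ∀ p ∈ [11, 19], ∀ m < p, m ∣ p - 1 → ∀ n ∈ [175560 / (p * m)],
    p * m * n = 175560 → n % p = 1 → m = if p = 11 then 10 else 6 := by decide +kernel

theorem expo_self : ∀ e ∈ J1.expo, (11 ∣ e → e = 11) ∧ (19 ∣ e → e = 19) ∧ (10 ∣ e → e = 10) ∧ (6 ∣ e → e = 6) := by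
  decide

/-- The normalisers of the subgroups of order 11 and 19. -/
theorem IsJ.frob_cyclic (h : IsJ K) {p : ℕ} [hp : Fact p.Prime] (hp2 : p = 11 ∨ p = 19) :
    ∃ (E : Subgroup K) (t : K), Frob K p (if p = 11 then 10 else 6) E t := by
  obtain ⟨P⟩ : Nonempty (Sylow p K) := inferInstance
  have hPc : Nat.card P = p := by
    rw [SmallOrder.card_sylow_eq (k := 1) P (by rw [h.card]; rcases hp2 with rfl | rfl <;> norm_num)
      (by rw [h.card]; rcases hp2 with rfl | rfl <;> norm_num), pow_one]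
  haveI : IsCyclic P := isCyclic_of_prime_card hPc
  have hPo : ∀ e ∈ (P : Subgroup K), e ≠ 1 → orderOf e = p := fun e he he1 => by
    rcases (Nat.dvd_prime hp.out).mp (hPc ▸ Subgroup.orderOf_dvd_natCard (P : Subgroup K) he) with e1 | e1
    · exact absurd (orderOf_eq_one_iff.mp e1) he1
    · exact e1
  -- the centraliser is the subgroup itself
  have hcen : ∀ g : K, ∀ e ∈ (P : Subgroup K), e ≠ 1 → Commute g e → orderOf g ∣ p := by
    intro g e he he1 hc
    have heo := hPo e he he1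
    by_contra hg
    obtain ⟨r, hr, hrd, hrp⟩ : ∃ r, r.Prime ∧ r ∣ orderOf g ∧ r ≠ p := by
      by_contra hcon
      push Not at hcon
      obtain ⟨x, hx, hxd⟩ := h.exists_exponent g
      by_cases hpd : p ∣ orderOf g
      · obtain ⟨h11, h19, -⟩ := expo_self x hx
        rcases hp2 with rfl | rfl
        · exact hg (h11 (hpd.trans hxd) ▸ hxd)
        · exact hg (h19 (hpd.trans hxd) ▸ hxd)
      · refine hg ?_
        rcases eq_or_ne (orderOf g) 1 with e1 | e1
        · rw [e1]; exact one_dvd _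
        · obtain ⟨r, hr, hrd⟩ := Nat.exists_prime_and_dvd e1
          exact absurd (hcon r hr hrd ▸ hrd) hpd
    have hco : orderOf (g ^ (orderOf g / r) * e) = r * p := by
      rw [(hc.pow_left _).orderOf_mul_eq_mul_orderOf_of_coprime] <;> rw [exists_pow_prime hrd, heo]
      exact (Nat.coprime_primes hr hp.out).mpr hrp
    obtain ⟨x, hx, hxd⟩ := h.exists_exponent (g ^ (orderOf g / r) * e)
    rw [hco] at hxd
    obtain ⟨h11, h19, -⟩ := expo_self x hx
    have hxp : x = p := by
      rcases hp2 with rfl | rfl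
      · exact h11 ((Dvd.intro_left r rfl).trans hxd)
      · exact h19 ((Dvd.intro_left r rfl).trans hxd)
    rw [hxp] at hxd
    exact hrp ((Nat.prime_dvd_prime_iff_eq hr hp.out).mp ((Dvd.intro _ rfl).trans hxd))
  set N := Subgroup.normalizer ((P : Subgroup K) : Set K) with hN
  let φ : N →* MulAut P := (P : Subgroup K).normalizerMonoidHom
  have hker : ∀ n : N, φ n = 1 ↔ (n : K) ∈ (P : Subgroup K) := by
    intro n
    constructor
    · intro hn
      have hc : ∀ e ∈ (P : Subgroup K), Commute (n : K) e := fun e he => by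
        have h1 := congrArg Subtype.val (DFunLike.congr_fun hn ⟨e, he⟩)
        change (n : K) * e * (n : K)⁻¹ = e at h1
        exact mul_inv_eq_iff_eq_mul.mp h1
      obtain ⟨e, he, he1⟩ := (Subgroup.bot_or_exists_ne_one (P : Subgroup K)).resolve_left fun e => by
        change Nat.card (P : Subgroup K) = p at hPc
        rw [e, Subgroup.card_bot] at hPc
        exact hp.out.ne_one hPc.symm
      have hnp : IsPGroup p (Subgroup.zpowers (n : K)) := by
        rcases (Nat.dvd_prime hp.out).mp (hcen _ e he he1 (hc e he)) with e1 | e1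
        · exact IsPGroup.of_card (n := 0) (by rw [Nat.card_zpowers, e1, pow_zero])
        · exact IsPGroup.of_card (n := 1) (by rw [Nat.card_zpowers, e1, pow_one])
      have h2 := hnp.inf_normalizer_sylow P
      have h3 : (n : K) ∈ Subgroup.zpowers (n : K) ⊓ Subgroup.normalizer ((P : Subgroup K) : Set K) :=
        ⟨Subgroup.mem_zpowers _, n.2⟩
      exact (Subgroup.mem_inf.mp (h2.le h3)).2
    · intro hn
      refine MulEquiv.ext fun e => Subtype.ext ?_
      show (n : K) * e * (n : K)⁻¹ = e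
      haveI : IsMulCommutative (P : Subgroup K) := IsCyclic.isMulCommutative
      rw [show (n : K) * e = e * n from congrArg Subtype.val (mul_comm' (⟨n, hn⟩ : (P : Subgroup K)) e),
        mul_inv_cancel_right]
  haveI : IsCyclic (MulAut P) := by
    haveI : IsCyclic (ZMod (Nat.card P))ˣ := by rw [hPc]; infer_instance
    exact isCyclic_of_surjective _ (IsCyclic.mulAutMulEquiv (G := P)).symm.surjective
  have hkerN : φ.ker = (P : Subgroup K).subgroupOf N := by
    ext n; rw [MonoidHom.mem_ker, hker n, Subgroup.mem_subgroupOf]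
  set m := Nat.card φ.range with hm
  have hcardN : Nat.card N = p * m := by
    rw [Subgroup.card_eq_card_quotient_mul_card_subgroup φ.ker, hkerN,
      Nat.card_congr (Subgroup.subgroupOfEquivOfLe Subgroup.le_normalizer).toEquiv, ← hkerN,
      Nat.card_congr (QuotientGroup.quotientKerEquivRange φ).toEquiv, show Nat.card (P : Subgroup K) = p from hPc,
      mul_comm]
  have hmd : m ∣ p - 1 := by
    have h1 := Subgroup.card_subgroup_dvd_card φ.range
    rw [IsCyclic.card_mulAut P, hPc, Nat.totient_prime hp.out] at h1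
    exact h1
  have hidx := N.card_mul_index
  rw [hcardN, h.card, show N.index = Nat.card (Sylow p K) from P.card_eq_index_normalizer.symm] at hidx
  have hmod : Nat.card (Sylow p K) % p = 1 := by
    have := card_sylow_modEq_one p K
    rwa [Nat.ModEq, Nat.one_mod_eq_one.mpr hp.out.ne_one] at this
  have hm' : m = if p = 11 then 10 else 6 := by
    have hm0 : 0 < m := Nat.card_pos
    refine index_arith p (by rcases hp2 with rfl | rfl <;> simp) m
      (Nat.lt_of_le_of_lt (Nat.le_of_dvd (by have := hp.out.two_le; omega) hmd) (by have := hp.out.two_le; omega))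
      hmd _ ?_ hidx hmod
    rw [List.mem_singleton, ← hidx, Nat.mul_div_cancel_left _ (Nat.mul_pos hp.out.pos hm0)]
  obtain ⟨⟨_, g, rfl⟩, hgen⟩ := IsCyclic.exists_ofOrder_eq_natCard (α := φ.range)
  rw [← Subgroup.orderOf_coe, ← hm] at hgen
  have hgm : m ∣ orderOf (g : K) := by
    rw [Subgroup.orderOf_coe, ← hgen]; exact orderOf_map_dvd φ g
  have hgo : orderOf (g : K) = m := by
    obtain ⟨x, hx, hxd⟩ := h.exists_exponent (g : K)
    obtain ⟨-, -, h10, h6⟩ := expo_self x hx
    have : x = m := by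
      rw [hm']
      rcases hp2 with rfl | rfl
      · simp only [if_true] at hm' ⊢; exact h10 (hm' ▸ hgm.trans hxd)
      · simp only [show ¬ (19 = 11) by norm_num, if_false] at hm' ⊢; exact h6 (hm' ▸ hgm.trans hxd)
    exact Nat.dvd_antisymm (this ▸ hxd) hgm
  refine ⟨(P : Subgroup K), (g : K), P.2, ?_, g.2, hgo.trans hm', fun j hj hjk e he hc => ?_⟩
  · refine (Subgroup.bot_or_exists_ne_one _).resolve_left fun e => ?_
    change Nat.card (P : Subgroup K) = p at hPc
    rw [e, Subgroup.card_bot] at hPc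
    exact hp.out.ne_one hPc.symm
  · by_contra he1
    have h1 := hcen _ e he he1 hc
    have h2 : orderOf ((g : K) ^ j) ∣ m := hgo ▸ orderOf_pow_dvd j
    have hcop : m.Coprime p := by
      rw [hm']; rcases hp2 with rfl | rfl <;> decide
    have h3 : (g : K) ^ j = 1 := orderOf_eq_one_iff.mp (Nat.eq_one_of_dvd_coprimes hcop h2 h1)
    have h4 := Nat.le_of_dvd hj (orderOf_dvd_of_pow_eq_one h3)
    rw [hgo, hm'] at h4
    omega

omit [Finite K] in
/-- A power of the complement is a complement. -/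
theorem Frob.pow {p k a b : ℕ} {E : Subgroup K} {t : K} (h : Frob K p k E t) (hk : k = a * b) (ha : 0 < a)
    : Frob K p b E (t ^ a) := by
  refine ⟨h.pgroup, h.ne, Subgroup.pow_mem _ h.norm a, ?_, fun j hj hjb e he hc => ?_⟩
  · rw [orderOf_pow' t ha.ne', h.order, hk, Nat.gcd_mul_right_left, Nat.mul_div_cancel_left _ ha]
  · refine h.free (a * j) (Nat.mul_pos ha hj) (hk ▸ (Nat.mul_lt_mul_left ha).mpr hjb) e he ?_
    rwa [pow_mul]

end JFrob

/-! ### Borel subgroups of the other two -/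

section Borel

variable {K : Type u} [Group K] [Finite K]

/-- Every element of order `p`, for a simple divisor, is conjugate into a subgroup containing one. -/
theorem conj_into {p : ℕ} [Fact p.Prime] (hd : p ∣ Nat.card K) (hd2 : ¬ p ^ 2 ∣ Nat.card K) (B : Subgroup K)
    (hB : p ∣ Nat.card B) {k : K} (hk : orderOf k = p) : ∃ c : K, c * k * c⁻¹ ∈ B := by
  obtain ⟨b, hb⟩ := exists_prime_orderOf_dvd_card' p hB
  have hsyl : ∀ a : K, orderOf a = p → ∃ P : Sylow p K, (P : Subgroup K) = Subgroup.zpowers a := fun a ha => by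
    obtain ⟨P, hP⟩ := (IsPGroup.of_card (n := 1) (by rw [Nat.card_zpowers, ha, pow_one]) :
      IsPGroup p (Subgroup.zpowers a)).exists_le_sylow
    refine ⟨P, (Subgroup.eq_of_le_of_card_ge hP ?_).symm⟩
    rw [Nat.card_zpowers, ha, show Nat.card (P : Subgroup K) = Nat.card P from rfl,
      SmallOrder.card_sylow_eq (k := 1) P (by rwa [pow_one]) hd2, pow_one]
  obtain ⟨P1, hP1⟩ := hsyl k hk
  obtain ⟨P2, hP2⟩ := hsyl (b : K) (by rw [Subgroup.orderOf_coe, hb])
  obtain ⟨c, hc⟩ := MulAction.exists_smul_eq K P1 P2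
  refine ⟨c, Subgroup.zpowers_le.mpr b.2 ?_⟩
  rw [← hP2, ← hc, Sylow.coe_subgroup_smul]
  exact Subgroup.smul_mem_pointwise_smul _ (MulAut.conj c) _ (hP1 ▸ Subgroup.mem_zpowers k)

theorem IsA.exists_borel (h : IsA K) :
    ∃ B : Subgroup K, Group.IsSolvable B ∧ ∀ k : K, orderOf k = 5 ∨ orderOf k = 11 → ∃ c, c * k * c⁻¹ ∈ B := by
  obtain ⟨b, hb⟩ := exists_prime_orderOf_dvd_card' (G := K) 5 (by rw [h.card]; norm_num)
  refine ⟨Subgroup.zpowers b, inferInstance, fun k hk => ?_⟩
  rcases hk with hk | hk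
  · exact conj_into (by rw [h.card]; norm_num) (by rw [h.card]; norm_num) _
      (by rw [Nat.card_zpowers, hb]) hk
  · exfalso
    have h1 := orderOf_dvd_natCard k
    rw [hk, h.card] at h1
    norm_num at h1

theorem eleven_arith : ∀ n ∈ Nat.divisors 60, n % 11 = 1 → n = 1 ∨ n = 12 := by decide +kernel

theorem IsL.exists_borel (h : IsL K) :
    ∃ B : Subgroup K, Group.IsSolvable B ∧ ∀ k : K, orderOf k = 5 ∨ orderOf k = 11 → ∃ c, c * k * c⁻¹ ∈ B := by
  obtain ⟨P⟩ : Nonempty (Sylow 11 K) := inferInstance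
  set N := Subgroup.normalizer ((P : Subgroup K) : Set K) with hN
  have hPc : Nat.card P = 11 := by
    rw [SmallOrder.card_sylow_eq (k := 1) P (by rw [h.card]; norm_num) (by rw [h.card]; norm_num), pow_one]
  have hidx := N.card_mul_index
  rw [h.card, show N.index = Nat.card (Sylow 11 K) from P.card_eq_index_normalizer.symm] at hidx
  have hmod : Nat.card (Sylow 11 K) % 11 = 1 := by
    have := card_sylow_modEq_one 11 K
    simpa [Nat.ModEq] using this
  have hd60 : Nat.card (Sylow 11 K) ∣ 60 := by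
    refine P.card_dvd_index.trans (dvd_of_eq ?_)
    have := (P : Subgroup K).card_mul_index
    rw [show Nat.card (P : Subgroup K) = 11 from hPc, h.card] at this
    omega
  have hn1 : Nat.card (Sylow 11 K) ≠ 1 := fun e => by
    rw [e, mul_one] at hidx
    have htop : N = ⊤ := Subgroup.eq_top_of_card_eq N (by rw [hidx, h.card])
    haveI : (P : Subgroup K).Normal := Subgroup.normalizer_eq_top_iff.mp htop
    haveI := h.simp.1
    change Nat.card (P : Subgroup K) = 11 at hPc
    rcases Subgroup.Normal.eq_bot_or_eq_top (inferInstance : (P : Subgroup K).Normal) with e1 | e1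
    · rw [e1, Subgroup.card_bot] at hPc; norm_num at hPc
    · rw [e1, Subgroup.card_top, h.card] at hPc; norm_num at hPc
  have h12 := (eleven_arith _ (Nat.mem_divisors.mpr ⟨hd60, by norm_num⟩) hmod).resolve_left hn1
  rw [h12] at hidx
  have hN55 : Nat.card N = 55 := by omega
  refine ⟨N, ?_, fun k hk => ?_⟩
  · haveI : IsCyclic P := isCyclic_of_prime_card hPc
    set P' := (P : Subgroup K).subgroupOf N with hP'
    haveI : P'.Normal := Subgroup.normal_in_normalizer
    have hP'c : Nat.card P' = 11 := by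
      rw [hP', Nat.card_congr (Subgroup.subgroupOfEquivOfLe Subgroup.le_normalizer).toEquiv]; exact hPc
    have hq : Nat.card (N ⧸ P') = 5 := by
      have := Subgroup.card_eq_card_quotient_mul_card_subgroup P'
      rw [hN55, hP'c] at this
      omega
    haveI : IsCyclic (N ⧸ P') := isCyclic_of_prime_card hq
    haveI : IsCyclic P' := isCyclic_of_prime_card hP'c
    exact (Group.isSolvable_iff_subgroup_quotient P').mpr ⟨inferInstance, inferInstance⟩
  · rcases hk with hk | hk
    · exact conj_into (by rw [h.card]; norm_num) (by rw [h.card]; norm_num) N (by rw [hN55]; norm_num) hk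
    · exact conj_into (by rw [h.card]; norm_num) (by rw [h.card]; norm_num) N (by rw [hN55]; norm_num) hk

theorem small_ge : ∀ m ∈ DegreeGraphSmall.smallOrders, 60 ≤ m := by decide

/-- The normaliser of a non-trivial proper subgroup of `A5` is solvable. -/
theorem IsA.normalizer_solvable (h : IsA K) {T : Subgroup K} (hT : T ≠ ⊥) (hT' : T ≠ ⊤) :
    Group.IsSolvable (Subgroup.normalizer (T : Set K)) := by
  by_contra hns
  have hne : Subgroup.normalizer (T : Set K) ≠ ⊤ := fun e => by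
    haveI : T.Normal := Subgroup.normalizer_eq_top_iff.mp e
    haveI := h.simp.1
    rcases Subgroup.Normal.eq_bot_or_eq_top (inferInstance : T.Normal) with e1 | e1
    · exact hT e1
    · exact hT' e1
  have hlt : Nat.card (Subgroup.normalizer (T : Set K)) < 60 := by
    refine lt_of_le_of_ne (h.card ▸ Subgroup.card_le_card_group _) fun e => hne ?_
    exact Subgroup.eq_top_of_card_eq _ (e.trans h.card.symm)
  obtain ⟨m, hm, hd⟩ := DegreeGraphSmall.exists_dvd (by omega) hns
  have := Nat.le_of_dvd Nat.card_pos hd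
  have := small_ge m hm
  omega

end Borel

/-! ### The list -/

theorem expo_dvd_square : ∀ a ∈ J1.expo, ∀ b ∈ J1.expo, Nat.lcm a b ∣ 43890 ∧
    (∀ r ∈ [2, 3, 5, 7, 11, 19], ∀ s ∈ [2, 3, 5, 7, 11, 19], ∀ t ∈ [2, 3, 5, 7, 11, 19],
      cls r ≠ cls s → cls r ≠ cls t → cls s ≠ cls t → r ∣ Nat.lcm a b → s ∣ Nat.lcm a b → ¬ t ∣ Nat.lcm a b) ∧
    ∀ x ∈ [7, 11, 19], ¬ 30 * x ∣ Nat.lcm a b := by decide +kernel

theorem prime_dvd_product {r : ℕ} (hr : r.Prime) (h : r ∣ 43890) : r ∈ Six := by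
  have key : ∀ r ∈ Nat.divisors 43890, r ∈ Six ∨ r = 1 ∨ ∃ a ∈ Six, a ≠ r ∧ a ∣ r := by decide +kernel
  rcases key r (Nat.mem_divisors.mpr ⟨h, by norm_num⟩) with h' | h' | ⟨a, ha, hne, hd⟩
  · exact h'
  · exact absurd h' hr.ne_one
  · exact absurd ((Nat.prime_dvd_prime_iff_eq (prime_of_six ha) hr).mp hd) hne

theorem sqfree_product : Squarefree 43890 := by
  rw [show 43890 = 2 * 3 * 5 * 7 * 11 * 19 by norm_num]
  decide +kernel

theorem orders_square : Orders (↥Cfsg.Spor.J1 × ↥Cfsg.Spor.J1) := by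
  have key : ∀ g : ↥Cfsg.Spor.J1 × ↥Cfsg.Spor.J1,
      ∃ a ∈ J1.expo, ∃ b ∈ J1.expo, orderOf g ∣ Nat.lcm a b := fun g => by
    have hJ : IsJ ↥Cfsg.Spor.J1 := ⟨MulEquiv.refl _⟩
    obtain ⟨a, ha, had⟩ := hJ.exists_exponent g.1
    obtain ⟨b, hb, hbd⟩ := hJ.exists_exponent g.2
    refine ⟨a, ha, b, hb, ?_⟩
    rw [Prod.orderOf]
    exact Nat.lcm_dvd (had.trans (Nat.dvd_lcm_left a b)) (hbd.trans (Nat.dvd_lcm_right a b))
  have hl : ∀ r ∈ Six, r ∈ [2, 3, 5, 7, 11, 19] := by decide
  refine ⟨fun g r hr hd => ?_, fun g r hr hd => ?_, fun g r s t hr hs ht dr ds dt h1 h2 h3 => ?_,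
    fun g x hx hd => ?_⟩
  all_goals obtain ⟨a, ha, b, hb, hgd⟩ := key g
  all_goals obtain ⟨h43, hthree, hdeep⟩ := expo_dvd_square a ha b hb
  · exact prime_dvd_product hr ((hd.trans hgd).trans h43)
  · exact hr.not_isUnit (sqfree_product r ((hd.trans hgd).trans h43))
  · exact hthree r (hl r (prime_dvd_product hr ((dr.trans hgd).trans h43)))
      s (hl s (prime_dvd_product hs ((ds.trans hgd).trans h43)))
      t (hl t (prime_dvd_product ht ((dt.trans hgd).trans h43))) h1 h2 h3 (dr.trans hgd) (ds.trans hgd) (dt.trans hgd)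
  · exact hdeep x (by rcases hx with rfl | rfl | rfl <;> decide) (hd.trans hgd)

theorem pairs_square : Pairs (↥Cfsg.Spor.J1 × ↥Cfsg.Spor.J1) := by
  intro r hr s hs hne
  haveI := finite_J
  have key : ∀ a ∈ Six, ∃ g : ↥Cfsg.Spor.J1, orderOf g = a := fun a ha => by
    haveI := Fact.mk (prime_of_six ha)
    refine exists_prime_orderOf_dvd_card' a ?_
    rw [J1.card_J1]
    rcases mem_six ha with rfl | rfl | rfl | rfl | rfl | rfl <;> norm_num
  obtain ⟨x, hx⟩ := key r hr
  obtain ⟨y, hy⟩ := key s hs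
  refine ⟨(x, y), ?_⟩
  rw [Prod.orderOf, hx, hy]
  exact ((Nat.coprime_primes (prime_of_six hr) (prime_of_six hs)).mpr hne).lcm_eq_mul

theorem Orders.dvd_product {G : Type u} [Group G] [Finite G] (h : Orders G) (g : G) : orderOf g ∣ 43890 := by
  refine (Nat.dvd_iff_prime_pow_dvd_dvd 43890 (orderOf g)).mpr fun p k hp hpk => ?_
  rcases k with _ | _ | k
  · simp
  · rw [pow_one] at hpk ⊢
    rcases mem_six (h.primes g p hp hpk) with rfl | rfl | rfl | rfl | rfl | rfl <;> norm_num
  · exact absurd ((by rw [← pow_two]; exact pow_dvd_pow p (by omega) : p * p ∣ p ^ (k + 1 + 1)).trans hpk)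
      (h.sqfree g p hp)

theorem q_even : ∀ n < 16, 2 ≤ n → 2 ^ n - 1 ∣ 43890 → 2 ^ n + 1 ∣ 43890 → n = 2 := by decide +kernel

theorem q_odd : ∀ p ∈ [2, 3, 5, 7, 11, 19], ∀ f < 17, (p ^ f % 8 = 3 ∨ p ^ f % 8 = 5) → 5 ≤ p ^ f →
    (p ^ f - 1) / 2 ∣ 43890 → (p ^ f + 1) / 2 ∣ 43890 → p ^ f = 5 ∨ p ^ f = 11 := by decide +kernel

/-- The fields allowed. -/
theorem field_card {F : Type} [Field F] [Fintype F] (h : Orders PSL₂[F])
    (hq : ((Fintype.card F % 8 = 3 ∨ Fintype.card F % 8 = 5) ∧ 5 ≤ Fintype.card F) ∨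
      ∃ n : ℕ, 2 ≤ n ∧ Fintype.card F = 2 ^ n) :
    Fintype.card F = 4 ∨ Fintype.card F = 5 ∨ Fintype.card F = 11 := by
  haveI : Finite PSL₂[F] := PConj.finite_psl
  obtain ⟨p, hp⟩ := CharP.exists F
  haveI := hp
  obtain ⟨f, hpp, hpf⟩ := FiniteField.card F p
  haveI := Fact.mk hpp
  have key : ∀ n, n ∣ (Fintype.card F - 1) / Nat.gcd 2 (Fintype.card F - 1) ∨
      n ∣ (Fintype.card F + 1) / Nat.gcd 2 (Fintype.card F - 1) ∨ n = p → n ∣ 43890 := fun n hn => by
    obtain ⟨x, rfl⟩ := (PSL2Spectrum.psl_orders (F := F) p n).mpr hn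
    exact h.dvd_product x
  have k1 := key _ (Or.inl dvd_rfl)
  have k2 := key _ (Or.inr (Or.inl dvd_rfl))
  rcases hq with ⟨h8, h5⟩ | ⟨n, hn, hc⟩
  · have hg : Nat.gcd 2 (Fintype.card F - 1) = 2 := Nat.gcd_eq_left (by omega)
    rw [hg] at k1 k2
    have hb : Fintype.card F + 1 ≤ 2 * 43890 + 1 := by
      have := Nat.le_of_dvd (by norm_num) k2
      omega
    have hp6 := prime_dvd_product hpp (key p (Or.inr (Or.inr rfl)))
    have hp3 : 3 ≤ p := by
      rcases Nat.lt_or_ge p 3 with hlt | hge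
      · exfalso
        have : p = 2 := by have := hpp.two_le; omega
        subst this
        have : 2 ∣ Fintype.card F := hpf ▸ dvd_pow_self 2 f.2.ne'
        omega
      · exact hge
    have hf : (f : ℕ) < 17 := by
      by_contra hcon
      have h1 : 3 ^ 17 ≤ p ^ (f : ℕ) :=
        (Nat.pow_le_pow_left hp3 17).trans (Nat.pow_le_pow_right hpp.pos (by omega))
      rw [← hpf] at h1
      norm_num at h1
      omega
    rw [hpf] at k1 k2 h8 h5 ⊢
    exact Or.inr (q_odd p (by rcases mem_six hp6 with e | e | e | e | e | e <;> simp [e]) f hf h8 h5 k1 k2)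
  · have hg : Nat.gcd 2 (Fintype.card F - 1) = 1 := by
      refine (Nat.prime_two.coprime_iff_not_dvd.mpr ?_ : Nat.Coprime 2 _)
      have : 2 ∣ Fintype.card F := hc ▸ dvd_pow_self 2 (by omega)
      have := Fintype.card_pos (α := F)
      omega
    rw [hg, Nat.div_one, hc] at k1 k2
    have hn16 : n < 16 := by
      by_contra hcon
      have h1 : 2 ^ 16 ≤ 2 ^ n := Nat.pow_le_pow_right (by norm_num) (by omega)
      have := Nat.le_of_dvd (by norm_num) k2
      norm_num at h1
      omega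
    left
    rw [hc, q_even n hn16 hn k1 k2]
    norm_num

theorem psl_A {F : Type} [Field F] [Fintype F] (h : Fintype.card F = 4 ∨ Fintype.card F = 5) :
    IsA PSL₂[F] := by
  obtain ⟨e5⟩ := Cfsg.Agent.S0253.result (F := ZMod 5) (ZMod.card 5)
  rcases h with h | h
  · obtain ⟨e⟩ := Cfsg.Agent.S0252.result (F := F) h
    exact ⟨e.trans e5.symm⟩
  · obtain ⟨e⟩ := Cfsg.Agent.S0253.result (F := F) h
    exact ⟨e.trans e5.symm⟩

/-- The simple groups of the spectrum. -/
theorem classify {K : Type u} [Group K] [Finite K] (h : Orders K) (hs : IsSimpleGroup K)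
    (hna : ¬ IsMulCommutative K) : IsA K ∨ IsL K ∨ IsJ K := by
  haveI : Fact (Nat.Prime 2) := ⟨Nat.prime_two⟩
  rcases WalterAb.listed_of_P (fun X _ _ => Walter.p_all X) K hs hna
    (fun P => ⟨⟨fun a b => Subtype.ext (h.commute_two P.2 a.2 b.2).eq⟩⟩) with ⟨F, i1, i2, hc, ⟨e⟩⟩ | hJ
  · rcases field_card (h.of_surjective e.toMonoidHom e.surjective) hc with hF | hF | hF
    · obtain ⟨e'⟩ := psl_A (F := F) (Or.inl hF)
      exact Or.inl ⟨e.trans e'⟩
    · obtain ⟨e'⟩ := psl_A (F := F) (Or.inr hF)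
      exact Or.inl ⟨e.trans e'⟩
    · obtain ⟨r⟩ : Nonempty (F ≃+* ZMod 11) := ⟨(ZMod.ringEquivOfPrime F (by norm_num) hF).symm⟩
      exact Or.inr (Or.inl ⟨fact11, ⟨e.trans (Homogeneous.pslCongr r)⟩⟩)
  · haveI := hs
    obtain ⟨S⟩ : Nonempty (Sylow 2 K) := inferInstance
    obtain ⟨t, ht⟩ : ∃ t : K, orderOf t = 2 := exists_prime_orderOf_dvd_card' 2 (by
      have h8 := Subgroup.card_subgroup_dvd_card (S : Subgroup K)
      rw [(hJ.1 S).1] at h8
      exact (show 2 ∣ 8 by norm_num).trans h8)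
    obtain ⟨c⟩ := hJ.co ht
    have h5 : Fintype.card c.F = 5 := by
      obtain ⟨F, iF, iFt, hq, ⟨e⟩⟩ := hJ.2 t ht
      have hcard : Fintype.card F = Fintype.card c.F := by
        have e1 := Nat.card_congr (e.symm.trans c.e).toEquiv
        rw [Nat.card_prod, Nat.card_prod] at e1
        have e2 : Nat.card PSL₂[F] = Nat.card PSL₂[c.F] :=
          Nat.eq_of_mul_eq_mul_left Nat.card_pos e1
        have a1 := DicksonFull.card_psl (F := F)
        have a2 := DicksonFull.card_psl (F := c.F)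
        have g1 : Nat.gcd 2 (Fintype.card F - 1) = 2 := Nat.gcd_eq_left (by
          have := WalterAb.card_mod hq; omega)
        have g2 : Nat.gcd 2 (Fintype.card c.F - 1) = 2 := Nat.gcd_eq_left (by have := c.hq; omega)
        rw [g1, e2] at a1
        rw [g2, a1] at a2
        have key : ∀ a b : ℕ, 5 ≤ a → a < b → a * (a ^ 2 - 1) < b * (b ^ 2 - 1) := fun a b ha hab => by
          have h1 : a ^ 2 < b ^ 2 := Nat.pow_lt_pow_left hab (by norm_num)
          have h2 : 1 ≤ a ^ 2 := Nat.one_le_pow _ _ (by omega)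
          exact Nat.mul_lt_mul_of_lt_of_lt hab (by omega)
        by_contra hne
        rcases Nat.lt_or_gt_of_ne hne with hlt | hlt
        · exact (key _ _ (WalterAb.card_mod hq).2 hlt).ne a2
        · exact (key _ _ c.h5 hlt).ne a2.symm
      rcases field_card (h.of_injective c.ι c.ι_inj) (Or.inl ⟨c.hq, c.h5⟩) with hF | hF | hF
      · have := c.hq; omega
      · exact hF
      · exfalso
        rcases hq with e5 | ⟨m, -, e3⟩
        · omega
        · rw [hcard, hF] at e3
          have h3 : (11 : ℕ) ∣ 3 :=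
            (show Nat.Prime 11 by norm_num).dvd_of_dvd_pow (n := 2 * m + 1) (by rw [← e3])
          norm_num at h3
    obtain ⟨e5⟩ := Cfsg.Agent.S0253.result (F := c.F) h5
    obtain ⟨f⟩ := J1Unique.isoJ1_of_centralizer (fun P => (hJ.1 P).1) t ht
      (c.e.trans ((MulEquiv.refl _).prodCongr e5))
    exact Or.inr (Or.inr ⟨f⟩)

end CfsgLib.J1Square
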