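import Cfsg.Agent.Lib.J1Square.Comp
import Cfsg.Agent.S0205
import Cfsg.Agent.S3814

/-!
At least one component `J1`: without one a solvable subgroup would carry four primes pairwise joined.
-/

set_option autoImplicit false
set_option maxHeartbeats 1000000
set_option linter.unusedSectionVars false
set_option linter.style.haveILetI false

namespace CfsgLib.J1Square

open Cfsg CfsgLib

universe u

/-- A solvable subgroup cannot join four classes pairwise. -/
theorem no_solvable_four {G : Type u} [Group G] [Finite G] (h : Orders G) {H : Subgroup G} (hH : Group.IsSolvable H)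
    (σ : Finset ℕ) (hσ : σ.card = 4) (hσ6 : σ ⊆ Six) (hcls : ∀ a ∈ σ, ∀ b ∈ σ, a ≠ b → cls a ≠ cls b)
    (hpair : ∀ a ∈ σ, ∀ b ∈ σ, a ≠ b → ∃ g ∈ H, a * b ∣ orderOf g) : False := by
  refine Cfsg.Agent.S3814.result (G := H) σ (by omega) (fun a ha => prime_of_six (hσ6 ha)) (fun a ha b hb hab => ?_)
    (fun a ha b hb c hc hab hbc hac g hg => ?_) hH
  · obtain ⟨g, hg, hd⟩ := hpair a ha b hb hab
    have hd' : a * b ∣ orderOf (⟨g, hg⟩ : H) := by rw [Subgroup.orderOf_mk]; exact hd
    exact ⟨(⟨g, hg⟩ : H) ^ (orderOf (⟨g, hg⟩ : H) / (a * b)),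
      orderOf_pow_orderOf_div (orderOf_pos (⟨g, hg⟩ : H)).ne' hd'⟩
  · refine (h.subgroup H).no_three g a b c (prime_of_six (hσ6 ha)) (prime_of_six (hσ6 hb)) (prime_of_six (hσ6 hc))
      ?_ ?_ ?_ (hcls a ha b hb hab) (hcls a ha c hc hac) (hcls b hb c hc hbc) <;> rw [hg]
    · exact (Dvd.intro _ rfl).trans (Dvd.intro _ rfl)
    · exact (Dvd.intro_left _ rfl).trans (Dvd.intro _ rfl)
    · exact Dvd.intro_left _ rfl

/-- The preimage of a solvable subgroup under a map with solvable kernel. -/
theorem isSolvable_comap {G : Type u} [Group G] {Q : Type u} [Group Q] (π : G →* Q) (hk : Group.IsSolvable π.ker)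
    {A : Subgroup Q} (hA : Group.IsSolvable A) : Group.IsSolvable (A.comap π) := by
  haveI := hk
  haveI := hA
  exact Group.isSolvable_of_ker_le_range (Subgroup.inclusion (Subgroup.ker_le_comap π A)) (π.subgroupComap A)
    fun n hn => ⟨⟨(n : G), congrArg Subtype.val (MonoidHom.mem_ker.mp hn)⟩, Subtype.ext rfl⟩

theorem mem_of_coprime_pows {G : Type u} [Group G] {H : Subgroup G} {g : G} {a b : ℕ} (hab : a.Coprime b)
    (ha : g ^ a ∈ H) (hb : g ^ b ∈ H) : g ∈ H := by
  have e : g = (g ^ a) ^ (Nat.gcdA a b) * (g ^ b) ^ (Nat.gcdB a b) := by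
    rw [← zpow_natCast g a, ← zpow_natCast g b, ← zpow_mul, ← zpow_mul, ← zpow_add, ← Nat.gcd_eq_gcd_ab,
      hab.gcd_eq_one, Nat.cast_one, zpow_one]
  rw [e]
  exact mul_mem (zpow_mem ha _) (zpow_mem hb _)

section Linear

variable {G : Type u} [Group G] [Finite G] {Q : Type u} [Group Q] [Finite Q]

/-- A component `L2(11)` but no `J1`. -/
theorem no_linear (h : Orders G) (hp : Pairs G) (π : G →* Q) (hπ : Function.Surjective π)
    (hk : Group.IsSolvable π.ker) (hR : solvableRadical Q = ⊥) (hnoJ : ∀ K : Subgroup Q, IsComponent K → ¬ IsJ K)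
    {L : Subgroup Q} (hL : IsComponent L) (hLL : IsL L) : False := by
  have hQ : Orders Q := h.of_surjective π hπ
  have hfix := fun (x : Q) (K : Subgroup Q) (hK : IsComponent K) => all_fix hQ hR hL (Or.inl hLL.card) x hK
  have hnone : ∀ q, q = 7 ∨ q = 19 → ∀ y ∈ layer Q, y ^ q = 1 → y = 1 := fun q hq y hy hyq =>
    Subgroup.mem_bot.mp (mem_of_prime hR (q := q) (by rcases hq with rfl | rfl <;> norm_num) ⊥ (fun K hK _ hd => by
      rcases component_kind hQ hR hK with k | k | k
      · rw [k.card] at hd; rcases hq with rfl | rfl <;> norm_num at hd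
      · rw [k.card] at hd; rcases hq with rfl | rfl <;> norm_num at hd
      · exact hnoJ K hK k) hy hyq)
  obtain ⟨B, hB, -, hconj⟩ := exists_borel hQ hR hnoJ
  have hd55 : ∀ r ∈ ({5, 7, 11, 19} : Finset ℕ), ∀ s ∈ ({5, 7, 11, 19} : Finset ℕ), ∀ d ∈ Nat.divisors (r * s),
      ¬ 7 ∣ d → ¬ 19 ∣ d → r ≠ s → d ∣ 55 := by decide +kernel
  have hodd : ∀ r ∈ ({5, 7, 11, 19} : Finset ℕ), ∀ s ∈ ({5, 7, 11, 19} : Finset ℕ), Odd (r * s) := by decide
  refine no_solvable_four h (isSolvable_comap π hk hB) {5, 7, 11, 19} rfl (by decide) (by decide) fun r hr s hs hrs => ?_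
  obtain ⟨g, hg⟩ := hp r ((by decide +kernel : ({5, 7, 11, 19} : Finset ℕ) ⊆ Six) hr) s
    ((by decide +kernel : ({5, 7, 11, 19} : Finset ℕ) ⊆ Six) hs) hrs
  have hy : π g ^ (r * s) = 1 := by rw [← map_pow, ← hg, pow_orderOf_eq_one, map_one]
  have hyl : π g ∈ layer Q := odd_mem hQ hR hfix (hodd r hr s hs) hy
  have hn : ∀ q, q = 7 ∨ q = 19 → ¬ q ∣ orderOf (π g) := fun q hq hd => by
    have ho := exists_pow_prime hd
    rw [hnone q hq (π g ^ (orderOf (π g) / q)) (pow_mem hyl _)
      (orderOf_dvd_iff_pow_eq_one.mp (by rw [ho])), orderOf_one] at ho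
    omega
  obtain ⟨c, -, hcB⟩ := hconj (π g) hyl (orderOf_dvd_iff_pow_eq_one.mp
    (hd55 r hr s hs _ (Nat.mem_divisors.mpr ⟨orderOf_dvd_of_pow_eq_one hy, (hg ▸ (orderOf_pos g).ne')⟩)
      (hn 7 (Or.inl rfl)) (hn 19 (Or.inr rfl)) hrs))
  obtain ⟨c', rfl⟩ := hπ c
  refine ⟨c' * g * c'⁻¹, show π (c' * g * c'⁻¹) ∈ B by rwa [map_mul, map_mul, map_inv], ?_⟩
  exact dvd_of_eq (hg.symm.trans (orderOf_injective (MulAut.conj c').toMonoidHom (MulAut.conj c').injective g).symm)

end Linear

section Alternating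

variable {Q : Type u} [Group Q] [Finite Q]

/-- Conjugation on the components. -/
noncomputable def permHom : Q →* Equiv.Perm {K : Subgroup Q // IsComponent K} where
  toFun x :=
    { toFun := fun K => ⟨(K : Subgroup Q).map (MulAut.conj x).toMonoidHom, conj_component K.2 x⟩
      invFun := fun K => ⟨(K : Subgroup Q).map (MulAut.conj x⁻¹).toMonoidHom, conj_component K.2 x⁻¹⟩
      left_inv := fun K => Subtype.ext (by
        show ((K : Subgroup Q).map _).map _ = (K : Subgroup Q)
        rw [← map_conj_mul, inv_mul_cancel, map_one]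
        exact Subgroup.map_id _)
      right_inv := fun K => Subtype.ext (by
        show ((K : Subgroup Q).map _).map _ = (K : Subgroup Q)
        rw [← map_conj_mul, mul_inv_cancel, map_one]
        exact Subgroup.map_id _) }
  map_one' := by
    refine Equiv.ext fun K => Subtype.ext ?_
    show (K : Subgroup Q).map (MulAut.conj 1).toMonoidHom = K
    rw [map_one]
    exact Subgroup.map_id _
  map_mul' x y := by
    refine Equiv.ext fun K => Subtype.ext ?_
    exact map_conj_mul (K : Subgroup Q) x y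

theorem layer_le_normalizer {K : Subgroup Q} (hK : IsComponent K) :
    layer Q ≤ Subgroup.normalizer (K : Set Q) :=
  sSup_le fun L (hL : IsComponent L) => by
    by_cases e : L = K
    · exact e ▸ Subgroup.le_normalizer
    · exact fun a ha => Subgroup.mem_normalizer_fintype fun b hb => by
        rw [(commute_of_ne hL hK e ha hb).eq, mul_inv_cancel_right]; exact hb

theorem mem_normalizer_inv {x : Q} {T : Subgroup Q} (hx : x ∈ Subgroup.normalizer (T : Set Q)) {a : Q} (ha : a ∈ T) :
    x * a * x⁻¹ ∈ T := (Subgroup.mem_normalizer_iff.mp hx a).mp ha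

/-- The normaliser in the layer of a Sylow `2`-subgroup of the layer is solvable. -/
theorem layer_normalizer_solvable (hR : solvableRadical Q = ⊥)
    (hA : ∀ K : Subgroup Q, IsComponent K → IsA K) (S1 : Sylow 2 (layer Q)) :
    Group.IsSolvable (Subgroup.normalizer (((S1 : Subgroup (layer Q)).map (layer Q).subtype : Subgroup Q) : Set Q)
      ⊓ layer Q : Subgroup Q) := by
  classical
  haveI : Fact (Nat.Prime 2) := ⟨Nat.prime_two⟩
  set S := (S1 : Subgroup (layer Q)).map (layer Q).subtype with hS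
  suffices key : ∀ (s : Finset (Subgroup Q)) (M : Subgroup Q), M ≤ Subgroup.normalizer (S : Set Q) ⊓ layer Q →
      (∀ K : Subgroup Q, IsComponent K → K ∉ s → ∀ a ∈ K, ∀ x ∈ M, Commute a x) → Group.IsSolvable M by
    exact key (comps Q) _ le_rfl fun K hK hn => absurd (mem_comps.mpr hK) hn
  intro s
  induction s using Finset.induction_on with
  | empty =>
    intro M _ hc
    have h1 : ∀ x : M, x = 1 := fun x => Subtype.ext
      (eq_one_of_commute_layer hR fun K hK a ha => hc K hK (Finset.notMem_empty K) a ha x x.2)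
    exact Group.isSolvable_of_comm fun a b => by rw [h1 a, h1 b]
  | @insert K s hKs ih =>
    intro M hM hc
    by_cases hK : IsComponent K
    swap
    · exact ih M hM fun L hL hLs => hc L hL fun h => by
        rcases Finset.mem_insert.mp h with rfl | h'
        exacts [hK hL, hLs h']
    have hMN : M ≤ Subgroup.normalizer (K : Set Q) := hM.trans (inf_le_right.trans (layer_le_normalizer hK))
    let ψ : M →* MulAut K := K.normalizerMonoidHom.comp (Subgroup.inclusion hMN)
    -- the trace of the Sylow subgroup on the component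
    set T : Subgroup K := S.subgroupOf K with hT
    have hT1 : T ≠ ⊥ := by
      intro hbot
      obtain ⟨t, ht, hto⟩ := exists_elem (K := K) Nat.prime_two (by rw [(hA K hK).card]; norm_num)
      have htl : t ∈ layer Q := le_layer hK ht
      obtain ⟨P, hP⟩ := (IsPGroup.of_card (n := 1) (by
        rw [Nat.card_zpowers, Subgroup.orderOf_mk, hto, pow_one]) :
        IsPGroup 2 (Subgroup.zpowers (⟨t, htl⟩ : layer Q))).exists_le_sylow
      obtain ⟨c, hc'⟩ := MulAction.exists_smul_eq (layer Q) P S1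
      have hcS : (c : Q) * t * (c : Q)⁻¹ ∈ S := by
        refine ⟨c * ⟨t, htl⟩ * c⁻¹, ?_, rfl⟩
        rw [← hc', Sylow.coe_subgroup_smul]
        exact Subgroup.smul_mem_pointwise_smul _ (MulAut.conj c) _ (hP (Subgroup.mem_zpowers _))
      have hcK : (c : Q) * t * (c : Q)⁻¹ ∈ K := mem_normalizer_inv (layer_le_normalizer hK c.2) ht
      have hmem : (⟨_, hcK⟩ : K) ∈ T := hcS
      rw [hbot, Subgroup.mem_bot] at hmem
      have h1 : (c : Q) * t * (c : Q)⁻¹ = 1 := congrArg Subtype.val hmem
      rw [conj_eq_one_iff] at h1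
      rw [h1, orderOf_one] at hto
      norm_num at hto
    have hT2 : T ≠ ⊤ := by
      intro htop
      have hp : IsPGroup 2 T := (S1.2.map (layer Q).subtype).comap_of_injective K.subtype K.subtype_injective
      obtain ⟨n, hn⟩ := IsPGroup.iff_card.mp hp
      rw [htop, Subgroup.card_top, (hA K hK).card] at hn
      have h3 : 3 ∣ 2 ^ n := hn ▸ (by norm_num)
      exact absurd ((Nat.prime_dvd_prime_iff_eq Nat.prime_three Nat.prime_two).mp
        (Nat.prime_three.dvd_of_dvd_pow h3)) (by norm_num)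
    haveI := (hA K hK).normalizer_solvable hT1 hT2
    have hrange : ψ.range ≤ (Subgroup.normalizer (T : Set K)).map (MulAut.conj : K →* MulAut K) := by
      rintro _ ⟨x, rfl⟩
      set s' := (comps Q).erase K with hs'
      have hxl : (x : Q) ∈ K ⊔ s'.sup id := by
        have h1 := (hM x.2).2
        rw [← sup_comps, ← Finset.insert_erase (mem_comps.mpr hK), Finset.sup_insert] at h1
        exact h1
      have hs'c : ∀ L ∈ s', IsComponent L := fun L hL => mem_comps.mp (Finset.mem_of_mem_erase hL)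
      obtain ⟨k, hk, g', hg', hx, -⟩ := split hR hs'c hK (Finset.notMem_erase K _) hxl
      have hact : ∀ a ∈ K, (x : Q) * a * (x : Q)⁻¹ = k * a * k⁻¹ := fun a ha => by
        rw [hx, show k * g' * a * (k * g')⁻¹ = k * (g' * a * g'⁻¹) * k⁻¹ by group,
          ← (sup_commute hs'c hK (Finset.notMem_erase K _) ha hg').eq, mul_inv_cancel_right]
      refine ⟨⟨k, hk⟩, Subgroup.mem_normalizer_fintype fun a ha => ?_, MulEquiv.ext fun a => Subtype.ext ?_⟩
      · show k * (a : Q) * k⁻¹ ∈ S
        rw [← hact a a.2]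
        exact mem_normalizer_inv (hM x.2).1 ha
      · show k * (a : Q) * k⁻¹ = (x : Q) * a * (x : Q)⁻¹
        exact (hact a a.2).symm
    haveI : Group.IsSolvable ((Subgroup.normalizer (T : Set K)).map (MulAut.conj : K →* MulAut K)) :=
      Group.isSolvable_of_surjective (f := (MulAut.conj : K →* MulAut K).subgroupMap (Subgroup.normalizer (T : Set K)))
        (MonoidHom.subgroupMap_surjective _ _)
    haveI : Group.IsSolvable ψ.range :=
      Group.isSolvable_of_isSolvable_injective (f := Subgroup.inclusion hrange) (Subgroup.inclusion_injective _)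
    haveI : Group.IsSolvable ψ.ker := by
      haveI := ih (ψ.ker.map M.subtype) ((Subgroup.map_subtype_le _).trans hM) fun L hL hLs a ha x hx => by
        obtain ⟨y, hy, rfl⟩ := hx
        by_cases e : L = K
        · subst e
          have h1 := congrArg Subtype.val (DFunLike.congr_fun (MonoidHom.mem_ker.mp hy) (⟨a, ha⟩ : L))
          change (y : Q) * a * (y : Q)⁻¹ = a at h1
          exact (mul_inv_eq_iff_eq_mul.mp h1).symm
        · exact hc L hL (fun h => (Finset.mem_insert.mp h).elim e hLs) a ha y y.2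
      exact Group.isSolvable_of_isSolvable_injective
        (f := (Subgroup.equivMapOfInjective ψ.ker M.subtype M.subtype_injective).toMonoidHom)
        (Subgroup.equivMapOfInjective ψ.ker M.subtype M.subtype_injective).injective
    exact Group.isSolvable_of_ker_le_range ψ.ker.subtype ψ.rangeRestrict
      (by rw [MonoidHom.ker_rangeRestrict, Subgroup.range_subtype])

/-- The automorphisms outside the layer form a solvable group. -/
theorem quotient_layer_solvable (hQ : Orders Q) (hR : solvableRadical Q = ⊥) :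
    Group.IsSolvable (Q ⧸ layer Q) := by
  classical
  haveI : Fact (Nat.Prime 2) := ⟨Nat.prime_two⟩
  set φ : Q →* Equiv.Perm {K : Subgroup Q // IsComponent K} := permHom with hφ
  have hfix : ∀ x ∈ φ.ker, ∀ K : Subgroup Q, IsComponent K → K.map (MulAut.conj x).toMonoidHom = K :=
    fun x hx K hK => congrArg Subtype.val (Equiv.congr_fun (MonoidHom.mem_ker.mp hx) ⟨K, hK⟩)
  have hle : layer Q ≤ φ.ker := fun x hx => MonoidHom.mem_ker.mpr (Equiv.ext fun K => Subtype.ext (by
    show (K : Subgroup Q).map (MulAut.conj x).toMonoidHom = K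
    exact Subgroup.mem_normalizer_iff_map_conj_eq.mp (layer_le_normalizer K.2 hx)))
  have hodd : Odd (Nat.card φ.range) := by
    rw [← Nat.not_even_iff_odd, even_iff_two_dvd]
    intro h2
    obtain ⟨⟨_, x, rfl⟩, hx⟩ := exists_prime_orderOf_dvd_card' 2 h2
    rw [← Subgroup.orderOf_coe] at hx
    obtain ⟨d, ⟨i, rfl⟩, hd⟩ := exists_odd_pow hQ x
    have h1 : φ (x ^ (2 * i + 1)) = 1 := Equiv.ext fun K => Subtype.ext (invol_fixes hQ hR hd K.2)
    rw [map_pow, pow_succ, pow_mul, show φ x ^ 2 = 1 by rw [← hx, pow_orderOf_eq_one], one_pow, one_mul] at h1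
    change orderOf (φ x) = 2 at hx
    rw [h1, orderOf_one] at hx
    norm_num at hx
  haveI : Group.IsSolvable φ.range := Cfsg.Agent.S0205.result hodd
  haveI : (layer Q).Normal := Subgroup.normal_of_characteristic _
  let φ' : Q ⧸ layer Q →* φ.range := QuotientGroup.lift (layer Q) φ.rangeRestrict (by rwa [MonoidHom.ker_rangeRestrict])
  have hsq : ∀ z : φ'.ker, z * z = 1 := fun z => by
    obtain ⟨x, hx⟩ := QuotientGroup.mk'_surjective (layer Q) (z : Q ⧸ layer Q)
    have hz := MonoidHom.mem_ker.mp z.2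
    rw [← hx] at hz
    have hxk : x ∈ φ.ker := MonoidHom.mem_ker.mpr (congrArg Subtype.val hz)
    refine Subtype.ext ?_
    show (z : Q ⧸ layer Q) * z = 1
    rw [← hx, ← map_mul]
    exact (QuotientGroup.eq_one_iff _).mpr (sq_mem_layer hQ hR (hfix x hxk))
  haveI : Group.IsSolvable φ'.ker := Group.isSolvable_of_comm fun a b => by
    have hi : ∀ c : φ'.ker, c⁻¹ = c := fun c => inv_eq_of_mul_eq_one_right (hsq c)
    rw [← hi (a * b), mul_inv_rev, hi a, hi b]
  exact Group.isSolvable_of_ker_le_range φ'.ker.subtype φ' (by rw [Subgroup.range_subtype])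

/-- Commuting involution and element of odd prime order normalise a common Sylow subgroup of the layer. -/
theorem common_sylow (hQ : Orders Q) (S1 : Sylow 2 (layer Q)) {q : ℕ} [Fact q.Prime]
    (hq : ¬ q ∣ Nat.card (layer Q)) {u i : Q} (hu : u ^ q = 1) (hi : i * i = 1) (hui : Commute u i) :
    ∃ c : Q, c * u * c⁻¹ ∈ Subgroup.normalizer (((S1 : Subgroup (layer Q)).map (layer Q).subtype : Subgroup Q) : Set Q) ∧
      c * i * c⁻¹ ∈ Subgroup.normalizer (((S1 : Subgroup (layer Q)).map (layer Q).subtype : Subgroup Q) : Set Q) := by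
  haveI : Fact (Nat.Prime 2) := ⟨Nat.prime_two⟩
  haveI : (layer Q).Normal := Subgroup.normal_of_characteristic _
  set M := layer Q ⊓ Subgroup.centralizer ({i} : Set Q) with hM
  have huM : u ∈ Subgroup.normalizer (M : Set Q) := Subgroup.mem_normalizer_fintype fun a ha => by
    refine ⟨(inferInstance : (layer Q).Normal).conj_mem a ha.1 u, Subgroup.mem_centralizer_singleton_iff.mpr ?_⟩
    have h1 : Commute a i := Subgroup.mem_centralizer_singleton_iff.mp ha.2
    exact ((hui.mul_left h1).mul_left hui.inv_left).eq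
  have hU : IsPGroup q (Subgroup.zpowers u) := by
    rcases (Nat.dvd_prime (Fact.out : q.Prime)).mp (orderOf_dvd_of_pow_eq_one hu) with e | e
    · exact IsPGroup.of_card (n := 0) (by rw [Nat.card_zpowers, e, pow_zero])
    · exact IsPGroup.of_card (n := 1) (by rw [Nat.card_zpowers, e, pow_one])
  let ψ : Subgroup.zpowers u →* MulAut M :=
    M.normalizerMonoidHom.comp (Subgroup.inclusion (Subgroup.zpowers_le.mpr huM))
  letI : MulDistribMulAction (Subgroup.zpowers u) M := MulDistribMulAction.compHom M ψ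
  have hcount : ¬ q ∣ Nat.card (Sylow 2 M) := fun hd => hq
    ((hd.trans ((Sylow.card_dvd_index default).trans (Subgroup.index_dvd_card _))).trans
      (Subgroup.card_dvd_of_le inf_le_left))
  obtain ⟨SM, hSM⟩ := hU.nonempty_fixed_point_of_prime_not_dvd_card (Sylow 2 M) hcount
  -- an involution centralises a Sylow subgroup of the layer
  obtain ⟨P, hP⟩ := (show IsPGroup 2 (Subgroup.zpowers i) by
    rcases (Nat.dvd_prime Nat.prime_two).mp (orderOf_dvd_of_pow_eq_one (show i ^ 2 = 1 by rw [pow_two, hi])) with e | e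
    · exact IsPGroup.of_card (n := 0) (by rw [Nat.card_zpowers, e, pow_zero])
    · exact IsPGroup.of_card (n := 1) (by rw [Nat.card_zpowers, e, pow_one])).exists_le_sylow
  set P' := CfsgLib.sylowInfNormal P (layer Q) with hP'
  have hle : ∀ a : layer Q, a ∈ (P' : Subgroup (layer Q)) → (a : Q) ∈ M := fun a ha =>
    ⟨a.2, Subgroup.mem_centralizer_singleton_iff.mpr (hQ.commute_two P.2 ha (hP (Subgroup.mem_zpowers i))).eq⟩
  let ι : (P' : Subgroup (layer Q)) →* M := ((layer Q).subtype.comp (P' : Subgroup (layer Q)).subtype).codRestrict M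
    fun a => hle a a.2
  have hι : Function.Injective ι := fun a b hab => Subtype.ext (Subtype.ext (congrArg Subtype.val hab :))
  obtain ⟨SM', hSM'⟩ := (P'.2.to_le (le_refl _) |>.of_surjective ι.rangeRestrict ι.rangeRestrict_surjective).exists_le_sylow
  have hcard : Nat.card S1 ≤ Nat.card (SM : Subgroup M) := by
    have e1 : Nat.card S1 = Nat.card P' := by rw [S1.card_eq_multiplicity, P'.card_eq_multiplicity]
    have e2 : Nat.card (SM : Subgroup M) = Nat.card (SM' : Subgroup M) := by
      rw [show Nat.card (SM : Subgroup M) = Nat.card SM from rfl, show Nat.card (SM' : Subgroup M) = Nat.card SM' from rfl,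
        SM.card_eq_multiplicity, SM'.card_eq_multiplicity]
    rw [e1, e2, show Nat.card P' = Nat.card ι.range from Nat.card_congr (MonoidHom.ofInjective hι).toEquiv]
    exact Nat.le_of_dvd Nat.card_pos (Subgroup.card_dvd_of_le hSM')
  set T := ((SM : Subgroup M).map M.subtype).subgroupOf (layer Q) with hT
  have hTl : (SM : Subgroup M).map M.subtype ≤ layer Q := (Subgroup.map_subtype_le _).trans inf_le_left
  obtain ⟨R, hR⟩ := ((SM.2.map M.subtype).of_equiv (Subgroup.subgroupOfEquivOfLe hTl).symm :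
    IsPGroup 2 T).exists_le_sylow
  have hRT : T = R := Subgroup.eq_of_le_of_card_ge hR (by
    rw [show Nat.card (R : Subgroup (layer Q)) = Nat.card R from rfl, R.card_eq_multiplicity, ← S1.card_eq_multiplicity,
      hT, Nat.card_congr (Subgroup.subgroupOfEquivOfLe hTl).toEquiv,
      Subgroup.card_map_of_injective M.subtype_injective]
    exact hcard)
  obtain ⟨c, hc⟩ := MulAction.exists_smul_eq (layer Q) R S1
  have hnorm : ∀ y : Q, (∀ a ∈ (SM : Subgroup M).map M.subtype, y * a * y⁻¹ ∈ (SM : Subgroup M).map M.subtype) →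
      (c : Q) * y * (c : Q)⁻¹ ∈
        Subgroup.normalizer (((S1 : Subgroup (layer Q)).map (layer Q).subtype : Subgroup Q) : Set Q) := by
    intro y hy
    refine Subgroup.mem_normalizer_fintype ?_
    rintro _ ⟨b, hb, rfl⟩
    rw [← hc, Sylow.coe_subgroup_smul, ← hRT] at hb
    obtain ⟨a, ha, rfl⟩ := hb
    have hya := hy (a : Q) ha
    refine ⟨c * ⟨y * (a : Q) * y⁻¹, hTl hya⟩ * c⁻¹, ?_, ?_⟩
    · rw [← hc, Sylow.coe_subgroup_smul, ← hRT]
      exact ⟨⟨y * (a : Q) * y⁻¹, hTl hya⟩, hya, rfl⟩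
    · show (c : Q) * (y * (a : Q) * y⁻¹) * (c : Q)⁻¹ = _
      show _ = (c : Q) * y * (c : Q)⁻¹ * ((c : Q) * (a : Q) * (c : Q)⁻¹) * ((c : Q) * y * (c : Q)⁻¹)⁻¹
      group
  refine ⟨(c : Q), hnorm u ?_, hnorm i ?_⟩
  · rintro _ ⟨a, ha, rfl⟩
    have h2 := Subgroup.smul_mem_pointwise_smul a (⟨u, Subgroup.mem_zpowers u⟩ : Subgroup.zpowers u) (SM : Subgroup M) ha
    have h3 : (⟨u, Subgroup.mem_zpowers u⟩ : Subgroup.zpowers u) • SM = SM := hSM _
    open scoped Pointwise in
    have h4 : (⟨u, Subgroup.mem_zpowers u⟩ : Subgroup.zpowers u) • (SM : Subgroup M) = (SM : Subgroup M) :=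
      (Sylow.pointwise_smul_def (g := (⟨u, Subgroup.mem_zpowers u⟩ : Subgroup.zpowers u)) (P := SM)).symm.trans
        (congrArg (fun T : Sylow 2 M => (T : Subgroup M)) h3)
    exact ⟨(⟨u, Subgroup.mem_zpowers u⟩ : Subgroup.zpowers u) • a, h4.le h2, rfl⟩
  · rintro _ ⟨a, ha, rfl⟩
    have h1 : Commute (a : Q) i := Subgroup.mem_centralizer_singleton_iff.mp a.2.2
    rw [show i * M.subtype a = M.subtype a * i from h1.symm.eq, mul_inv_cancel_right]
    exact ⟨a, ha, rfl⟩

/-- Only components `A5`. -/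
theorem no_alternating {G : Type u} [Group G] [Finite G] (h : Orders G) (hp : Pairs G) (π : G →* Q)
    (hπ : Function.Surjective π) (hk : Group.IsSolvable π.ker) (hR : solvableRadical Q = ⊥)
    (hA : ∀ K : Subgroup Q, IsComponent K → IsA K) : False := by
  classical
  haveI : Fact (Nat.Prime 2) := ⟨Nat.prime_two⟩
  have hQ : Orders Q := h.of_surjective π hπ
  haveI : (layer Q).Normal := Subgroup.normal_of_characteristic _
  obtain ⟨S1⟩ : Nonempty (Sylow 2 (layer Q)) := inferInstance
  set N := Subgroup.normalizer (((S1 : Subgroup (layer Q)).map (layer Q).subtype : Subgroup Q) : Set Q) with hN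
  have hNs : Group.IsSolvable N := by
    haveI := layer_normalizer_solvable hR hA S1
    haveI := quotient_layer_solvable hQ hR
    exact Group.isSolvable_of_ker_le_range (Subgroup.inclusion (inf_le_left : N ⊓ layer Q ≤ N))
      ((QuotientGroup.mk' (layer Q)).comp N.subtype)
      fun n hn => ⟨⟨(n : Q), n.2, (QuotientGroup.eq_one_iff _).mp hn⟩, Subtype.ext rfl⟩
  have hnd : ∀ q, q = 7 ∨ q = 11 ∨ q = 19 → ¬ q ∣ Nat.card (layer Q) := fun q hq hd => by
    have hqp : q.Prime := by rcases hq with rfl | rfl | rfl <;> norm_num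
    haveI := Fact.mk hqp
    obtain ⟨y, hy⟩ := exists_prime_orderOf_dvd_card' q hd
    have h1 := mem_of_prime hR hqp ⊥ (fun K hK _ hd => by
      rw [(hA K hK).card] at hd; rcases hq with rfl | rfl | rfl <;> norm_num at hd) y.2
      (orderOf_dvd_iff_pow_eq_one.mp (by rw [Subgroup.orderOf_coe, hy]))
    rw [show y = 1 from Subtype.ext (Subgroup.mem_bot.mp h1), orderOf_one] at hy
    exact hqp.ne_one hy.symm
  have hsur : ∀ z : Q, ∃ n ∈ N, ∃ d ∈ layer Q, z = n * d := fun z => by
    have hmem : z ∈ N ⊔ layer Q := by rw [hN, Sylow.normalizer_sup_eq_top S1]; exact Subgroup.mem_top z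
    obtain ⟨n, hn, d, hd, rfl⟩ := Subgroup.mem_sup_of_normal_right.mp hmem
    exact ⟨n, hn, d, hd, rfl⟩
  -- one commuting pair into the normaliser
  have hmove : ∀ (g : G) (r s : ℕ), r.Prime → s.Prime → r ≠ s → orderOf g = r * s → (s = 7 ∨ s = 11 ∨ s = 19) →
      π (g ^ s) * π (g ^ s) = 1 → ∃ y : G, π y ∈ N ∧ r * s ∣ orderOf y := by
    intro g r s hr hs hrs hg hs' hi
    haveI := Fact.mk hs
    obtain ⟨c, hcu, hci⟩ := common_sylow hQ S1 (hnd s hs') (u := π (g ^ r)) (i := π (g ^ s))
      (by rw [← map_pow, ← pow_mul, ← hg, pow_orderOf_eq_one, map_one]) hi (((Commute.refl g).pow_pow r s).map π)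
    obtain ⟨c', rfl⟩ := hπ c
    refine ⟨c' * g * c'⁻¹, mem_of_coprime_pows ((Nat.coprime_primes hr hs).mpr hrs) ?_ ?_,
      dvd_of_eq (hg.symm.trans (orderOf_injective (MulAut.conj c').toMonoidHom (MulAut.conj c').injective g).symm)⟩
    · rw [← map_pow, conj_pow, map_mul, map_mul, map_inv]; exact hcu
    · rw [← map_pow, conj_pow, map_mul, map_mul, map_inv]; exact hci
  refine no_solvable_four h (isSolvable_comap π hk hNs) {2, 7, 11, 19} rfl (by decide) (by decide) fun r hr s hs hrs => ?_
  have hr6 : r ∈ Six := (by decide +kernel : ({2, 7, 11, 19} : Finset ℕ) ⊆ Six) hr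
  have hs6 : s ∈ Six := (by decide +kernel : ({2, 7, 11, 19} : Finset ℕ) ⊆ Six) hs
  obtain ⟨g, hg⟩ := hp r hr6 s hs6 hrs
  have hr' := prime_of_six hr6
  have hs' := prime_of_six hs6
  simp only [Finset.mem_insert, Finset.mem_singleton] at hr hs
  rcases hr with hr2 | hr
  · subst hr2
    refine hmove g 2 s hr' hs' hrs hg (hs.resolve_left hrs.symm) ?_
    rw [← map_mul, ← pow_add, ← two_mul, ← hg, pow_orderOf_eq_one, map_one]
  rcases hs with hs2 | hs
  · subst hs2
    obtain ⟨y, hy, hd⟩ := hmove g 2 r hs' hr' hrs.symm (hg.trans (mul_comm r 2)) hr (by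
      rw [← map_mul, ← pow_add, show r + r = r * 2 by ring, ← hg, pow_orderOf_eq_one, map_one])
    exact ⟨y, hy, mul_comm r 2 ▸ hd⟩
  by_cases h1 : π (g ^ s) = 1
  · exact hmove g r s hr' hs' hrs hg hs (by rw [h1, one_mul])
  by_cases h2 : π (g ^ r) = 1
  · obtain ⟨y, hy, hd⟩ := hmove g s r hs' hr' hrs.symm (hg.trans (mul_comm r s)) hr (by rw [h2, one_mul])
    exact ⟨y, hy, mul_comm r s ▸ hd⟩
  obtain ⟨n, hn, d, hd, hnd'⟩ := hsur (π g)
  obtain ⟨y, rfl⟩ := hπ n
  refine ⟨y, hn, ?_⟩
  set μ := (QuotientGroup.mk' (layer Q)).comp π with hμ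
  have e1 : μ y = μ g := by
    show QuotientGroup.mk' (layer Q) (π y) = QuotientGroup.mk' (layer Q) (π g)
    rw [hnd', map_mul, show QuotientGroup.mk' (layer Q) d = 1 from (QuotientGroup.eq_one_iff d).mpr hd, mul_one]
  refine (?_ : r * s ∣ orderOf (μ g)).trans (e1 ▸ orderOf_map_dvd μ y)
  have key : ∀ a b : ℕ, a.Prime → (b = 7 ∨ b = 11 ∨ b = 19) → a ≠ b → orderOf g = a * b → π (g ^ a) ≠ 1 →
      b ∣ orderOf (μ g) := fun a b ha hb hab hgo hne => by
    have hbp : b.Prime := by rcases hb with rfl | rfl | rfl <;> norm_num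
    haveI := Fact.mk hbp
    by_contra hnd2
    have hdvd : orderOf (μ g) ∣ a :=
      ((hbp.coprime_iff_not_dvd.mpr hnd2).symm).dvd_of_dvd_mul_right (hgo ▸ orderOf_map_dvd μ g)
    have hmem : π (g ^ a) ∈ layer Q := by
      have := orderOf_dvd_iff_pow_eq_one.mp hdvd
      rw [← map_pow] at this
      exact (QuotientGroup.eq_one_iff _).mp this
    refine hnd b hb ?_
    have ho : orderOf (π (g ^ a)) = b :=
      orderOf_eq_prime (by rw [← map_pow, ← pow_mul, ← hgo, pow_orderOf_eq_one, map_one]) hne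
    exact ho ▸ Subgroup.orderOf_dvd_natCard (layer Q) hmem
  exact ((Nat.coprime_primes hr' hs').mpr hrs).mul_dvd_of_dvd_of_dvd
    (key s r hs' hr hrs.symm (hg.trans (mul_comm r s)) h1) (key r s hr' hs hrs hg h2)

end Alternating

end CfsgLib.J1Square
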