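import Cfsg.Agent.Lib.J1Square.Comp
import Cfsg.Agent.Lib.HallSolvable
import Cfsg.Agent.Lib.HallPi

/-!
Exactly one component `J1` is impossible.
-/

set_option autoImplicit false
set_option maxHeartbeats 1000000
set_option linter.unusedSectionVars false
set_option linter.style.haveILetI false

namespace CfsgLib.J1Square

open Cfsg CfsgLib
open CfsgLib.SzPairGen (elemCenter elemCenter_normal elemCenter_comm elemCenter_ne_bot exists_fixed_pair lucido)

universe u v

variable {X : Type u} [Group X] [Finite X] {S : Type v} [Group S]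

/-- A subgroup normalising a `2`-group covers with the part centralising it. -/
theorem cent_two (h : Orders X) (hS : Simp S) (h2 : 2 ∣ Nat.card S) (T : Subgroup X) (hT : IsPGroup 2 T)
    (Y : Subgroup X) (hY : Y ≤ Subgroup.normalizer (T : Set X)) (g : Y →* S) (hg : Function.Surjective g) (s : S) :
    ∃ y : Y, g y = s ∧ (y : X) ∈ Subgroup.centralizer (T : Set X) := by
  haveI : Fact (Nat.Prime 2) := ⟨Nat.prime_two⟩
  haveI : Finite S := Finite.of_surjective _ hg
  set C := (Subgroup.centralizer (T : Set X)).subgroupOf Y with hC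
  haveI : C.Normal := ⟨fun c hc n => by
    rw [hC, Subgroup.mem_subgroupOf, Subgroup.mem_centralizer_iff] at hc ⊢
    intro t ht
    have ht' : (n : X)⁻¹ * t * n ∈ T := by
      have := (Subgroup.mem_normalizer_iff.mp (inv_mem (hY n.2)) t).mp ht
      simpa using this
    have e := hc _ ht'
    calc t * ((n : X) * c * (n : X)⁻¹) = n * ((n : X)⁻¹ * t * n * c) * (n : X)⁻¹ := by group
      _ = n * (c * ((n : X)⁻¹ * t * n)) * (n : X)⁻¹ := by rw [e]
      _ = (n : X) * c * (n : X)⁻¹ * t := by group⟩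
  obtain ⟨P⟩ : Nonempty (Sylow 2 Y) := inferInstance
  set N := Subgroup.normalizer (T : Set X) with hN
  haveI : (T.subgroupOf N).Normal := Subgroup.normal_in_normalizer
  have hsup : IsPGroup 2 ((P : Subgroup Y).map (Subgroup.inclusion hY) ⊔ T.subgroupOf N : Subgroup N) :=
    (P.2.map _).to_sup_of_normal_right (hT.of_equiv (Subgroup.subgroupOfEquivOfLe Subgroup.le_normalizer).symm)
  have hPC : (P : Subgroup Y) ≤ C := fun a ha => by
    rw [hC, Subgroup.mem_subgroupOf, Subgroup.mem_centralizer_iff]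
    intro t ht
    have h1 : (⟨t, Subgroup.le_normalizer ht⟩ : N) ∈ T.subgroupOf N := ht
    exact congrArg Subtype.val ((h.subgroup N).commute_two hsup (Subgroup.mem_sup_right h1)
      (Subgroup.mem_sup_left (Subgroup.mem_map_of_mem _ ha))).eq
  rcases covers_or_le hS g hg C with hc | hc
  · obtain ⟨a, ha, has⟩ := hc s
    exact ⟨a, has, Subgroup.mem_subgroupOf.mp ha⟩
  · exfalso
    have hle : ((P : Subgroup Y)).map g = ⊥ := (Subgroup.map_eq_bot_iff _).mpr (hPC.trans hc)
    have h1 : ((P.mapSurjective hg : Sylow 2 S) : Subgroup S) = ⊥ := by rw [Sylow.coe_mapSurjective]; exact hle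
    exact (P.mapSurjective hg).ne_bot_of_dvd_card h2 h1

/-- Frattini's argument for a Sylow subgroup of an arbitrary subgroup. -/
theorem frattini_mem {H : Subgroup X} {p : ℕ} [Fact p.Prime] (P : Sylow p H) {c : X}
    (hc : c ∈ Subgroup.normalizer (H : Set X)) :
    ∃ n ∈ Subgroup.normalizer (((P : Subgroup H).map H.subtype : Subgroup X) : Set X), ∃ d ∈ H, c = n * d := by
  set N := Subgroup.normalizer (H : Set X) with hN
  set Q := (P : Subgroup H).map H.subtype with hQ
  haveI : (H.subgroupOf N).Normal := Subgroup.normal_in_normalizer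
  let e : ↥(H.subgroupOf N) ≃* H := Subgroup.subgroupOfEquivOfLe Subgroup.le_normalizer
  let P' : Sylow p ↥(H.subgroupOf N) := P.comapOfInjective e.toMonoidHom e.injective (by
    rw [MonoidHom.range_eq_top.mpr e.surjective]; exact le_top)
  have hmem : (⟨c, hc⟩ : N) ∈ Subgroup.normalizer (((P' : Subgroup ↥(H.subgroupOf N)).map
      (H.subgroupOf N).subtype : Subgroup N) : Set N) ⊔ H.subgroupOf N :=
    (Sylow.normalizer_sup_eq_top P').symm ▸ Subgroup.mem_top _
  obtain ⟨n, hn, d, hd, hnd⟩ := Subgroup.mem_sup_of_normal_right.mp hmem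
  have hmap : ∀ b : X, b ∈ Q ↔ ∃ hb : b ∈ N, (⟨b, hb⟩ : N) ∈ (P' : Subgroup ↥(H.subgroupOf N)).map
      (H.subgroupOf N).subtype := by
    intro b
    constructor
    · rintro ⟨w, hw, rfl⟩
      refine ⟨Subgroup.le_normalizer w.2, e.symm w, ?_, Subtype.ext rfl⟩
      show e (e.symm w) ∈ P
      rwa [MulEquiv.apply_symm_apply]
    · rintro ⟨hb, w, hw, hwb⟩
      exact ⟨e w, hw, congrArg Subtype.val hwb⟩
  refine ⟨n, Subgroup.mem_normalizer_fintype fun b hb => ?_, d, Subgroup.mem_subgroupOf.mp hd,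
    (congrArg Subtype.val hnd).symm⟩
  obtain ⟨hbN, hb'⟩ := (hmap b).mp hb
  exact (hmap _).mpr ⟨mul_mem (mul_mem n.2 hbN) (inv_mem n.2), (Subgroup.mem_normalizer_iff.mp hn _).mp hb'⟩

/-- Two elements of orders 7 and 19 of `J1` do not commute. -/
theorem IsJ.not_commute {K : Type u} [Group K] [Finite K] (h : IsJ K) {a b : K} {r s : ℕ}
    (hrs : r.Coprime s) (hr : 1 < r) (hq : s = 7 ∨ s = 11 ∨ s = 19) (ha : orderOf a = r) (hb : orderOf b = s)
    (hab : Commute a b) : False := by
  obtain ⟨e, he, hd⟩ := h.exists_exponent (a * b)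
  rw [hab.orderOf_mul_eq_mul_orderOf_of_coprime (by rw [ha, hb]; exact hrs), ha, hb] at hd
  have hes : ∀ e ∈ J1.expo, ∀ s ∈ [7, 11, 19], s ∣ e → e = s := by decide
  have := hes e he s (by rcases hq with rfl | rfl | rfl <;> decide) ((Dvd.intro_left r rfl).trans hd)
  rw [this] at hd
  have h2 := Nat.le_of_dvd (by omega) hd
  rcases hq with rfl | rfl | rfl <;> omega

/-- One `J1` beside another component. -/
theorem one_mixed {G : Type u} [Group G] [Finite G] (h : Orders G) (hp : Pairs G) {Q : Type u} [Group Q] [Finite Q]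
    (π : G →* Q) (hπ : Function.Surjective π) (hk : Group.IsSolvable π.ker) (hR : solvableRadical Q = ⊥)
    {Jc K : Subgroup Q} (hJc : IsComponent Jc) (hJ : IsJ Jc) (hK : IsComponent K) (hne : K ≠ Jc)
    (hother : ∀ M : Subgroup Q, IsComponent M → M ≠ Jc → ¬ IsJ M) : False := by
  have hQ : Orders Q := h.of_surjective π hπ
  have hcK : 4 ∣ Nat.card K := by
    rcases (component_kind hQ hR hK).card with e | e | e <;> rw [e] <;> norm_num
  have hfix := fun (x : Q) (M : Subgroup Q) (hM : IsComponent M) => all_fix hQ hR hJc (Or.inr hJ.card) x hM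
  have hin : ∀ q, q = 7 ∨ q = 19 → ∀ y : Q, y ^ q = 1 → y ∈ Jc := fun q hq y hy => by
    refine mem_of_prime hR (q := q) (by rcases hq with rfl | rfl <;> norm_num) Jc (fun M hM hMJ hd => ?_)
      (odd_mem hQ hR hfix (n := q) (by rcases hq with rfl | rfl <;> decide) hy) hy
    rcases component_kind hQ hR hM with k | k | k
    · rw [k.card] at hd; rcases hq with rfl | rfl <;> norm_num at hd
    · rw [k.card] at hd; rcases hq with rfl | rfl <;> norm_num at hd
    · exact hother M hM hMJ k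
  obtain ⟨g0, hg0s, hg0, hg0k⟩ := exists_lift_hom π hπ hk (A := K) (MulEquiv.refl _)
  -- both primes divide the kernel
  have hdvd : ∀ q q' : ℕ, q = 7 ∧ q' = 19 ∨ q = 19 ∧ q' = 7 → q ∣ Nat.card π.ker := by
    intro q q' hqq
    by_contra hnd
    have hq : q = 7 ∨ q = 19 := hqq.imp And.left And.left
    have hq' : q' = 7 ∨ q' = 19 := hqq.symm.imp And.right And.right
    haveI : Fact q.Prime := ⟨by rcases hq with rfl | rfl <;> norm_num⟩
    haveI : Fact q'.Prime := ⟨by rcases hq' with rfl | rfl <;> norm_num⟩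
    have hne' : q ≠ q' := by omega
    obtain ⟨g, hg⟩ := hp q (by rcases hq with rfl | rfl <;> decide) q' (by rcases hq' with rfl | rfl <;> decide) hne'
    set x := g ^ q' with hx
    set y := g ^ q with hy
    have hxo : orderOf x = q := by
      rw [hx, orderOf_pow_of_dvd (by have := (Fact.out : q'.Prime).pos; omega) (hg ▸ dvd_mul_left q' q), hg,
        Nat.mul_div_cancel _ (Fact.out : q'.Prime).pos]
    have hyo : orderOf y = q' := by
      rw [hy, orderOf_pow_of_dvd (by have := (Fact.out : q.Prime).pos; omega) (hg ▸ dvd_mul_right q q'), hg,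
        Nat.mul_div_cancel_left _ (Fact.out : q.Prime).pos]
    have hxy : Commute x y := (Commute.refl g).pow_pow _ _
    have hπx : π x ≠ 1 := fun e => hnd (hxo ▸ (Subgroup.orderOf_mk (H := π.ker) x e) ▸
      orderOf_dvd_natCard (⟨x, e⟩ : π.ker))
    have hxJ : π x ∈ Jc := hin q hq _ (by rw [← map_pow, ← hxo, pow_orderOf_eq_one, map_one])
    have hyq : π y ^ q' = 1 := by rw [← map_pow, ← hyo, pow_orderOf_eq_one, map_one]
    have hπy : π y = 1 := by
      by_contra hy1
      have hxq : π x ^ q = 1 := by rw [← map_pow, ← hxo, pow_orderOf_eq_one, map_one]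
      exact hJ.not_commute (a := (⟨π x, hxJ⟩ : Jc)) (b := ⟨π y, hin q' hq' _ hyq⟩)
        ((Nat.coprime_primes Fact.out Fact.out).mpr hne') (Fact.out : q.Prime).one_lt (by omega)
        (orderOf_eq_prime (Subtype.ext (by simpa using hxq)) (fun e => hπx (congrArg Subtype.val e)))
        (orderOf_eq_prime (Subtype.ext (by simpa using hyq)) (fun e => hy1 (congrArg Subtype.val e)))
        (Subtype.ext (hxy.map π).eq)
    set Y := K.comap π ⊓ Subgroup.centralizer ({x} : Set G) with hY
    let fY : Y →* K := g0.comp (Subgroup.inclusion inf_le_left)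
    have hfY : ∀ z : Y, fY z = 1 ↔ π (z : G) = 1 := fun z => hg0 _
    have hsY : Function.Surjective fY := fun s => by
      obtain ⟨z, hz⟩ := hg0s s
      obtain ⟨c, hc, hxc⟩ := cent_covers π hxo hπx hnd (c := (z : G))
        (commute_of_ne hK hJc hne z.2 hxJ).symm
      have hcK : c ∈ K.comap π := show π c ∈ K by rw [hc]; exact z.2
      refine ⟨⟨c, hcK, Subgroup.mem_centralizer_singleton_iff.mpr hxc.eq.symm⟩, ?_⟩
      rw [← hz]
      show g0 ⟨c, hcK⟩ = g0 z
      have h1 : g0 ⟨c, hcK⟩ * (g0 z)⁻¹ = 1 := by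
        rw [← map_inv, ← map_mul, hg0]
        show π (c * (z : G)⁻¹) = 1
        rw [map_mul, map_inv, hc, mul_inv_cancel]
      exact mul_inv_eq_one.mp h1
    have hyY : y ∈ Y := ⟨show π y ∈ K by rw [hπy]; exact one_mem _,
      Subgroup.mem_centralizer_singleton_iff.mpr hxy.eq.symm⟩
    have hdq : q' ∣ Nat.card fY.ker := by
      rw [← hyo, ← Subgroup.orderOf_mk (H := Y) y hyY]
      exact (Subgroup.orderOf_mk (H := fY.ker) _ ((hfY ⟨y, hyY⟩).mpr hπy)) ▸ orderOf_dvd_natCard _
    obtain ⟨e, v, heo, -, hvo, -, hev⟩ := four_fix (h.subgroup Y) fY hsY hcK (Fact.out : q'.Prime) (by omega) hdq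
    exact h.triple (r := 2) (s := q') (t := q) Nat.prime_two Fact.out Fact.out
      (a := (e : G)) (b := (v : G)) (c := x) (by rw [Subgroup.orderOf_coe, heo]) (by rw [Subgroup.orderOf_coe, hvo])
      (hxo ▸ dvd_rfl) (congrArg Subtype.val hev.eq)
      (Subgroup.mem_centralizer_singleton_iff.mp e.2.2) (Subgroup.mem_centralizer_singleton_iff.mp v.2.2)
      (by rcases hq' with rfl | rfl <;> decide) (by rcases hq with rfl | rfl <;> decide)
      (by rcases hqq with ⟨rfl, rfl⟩ | ⟨rfl, rfl⟩ <;> decide)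
  -- an involution over the second component centralises a 19-element
  haveI : Fact (Nat.Prime 2) := ⟨Nat.prime_two⟩
  haveI : Fact (Nat.Prime 19) := ⟨by norm_num⟩
  have h19 : 19 ∣ Nat.card g0.ker := by
    obtain ⟨a, ha⟩ := exists_prime_orderOf_dvd_card' (G := π.ker) 19 (hdvd 19 7 (Or.inr ⟨rfl, rfl⟩))
    have haK : (a : G) ∈ K.comap π := show π (a : G) ∈ K by rw [MonoidHom.mem_ker.mp a.2]; exact one_mem _
    rw [← ha, ← Subgroup.orderOf_coe, ← Subgroup.orderOf_mk (H := K.comap π) (a : G) haK]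
    exact (Subgroup.orderOf_mk (H := g0.ker) _ ((hg0 ⟨_, haK⟩).mpr (MonoidHom.mem_ker.mp a.2))) ▸ orderOf_dvd_natCard _
  obtain ⟨⟨e, heK⟩, ⟨v, hvK⟩, heo, -, hvo, hv1, hev⟩ := four_fix (h.subgroup (K.comap π)) g0 hg0s hcK
    (show Nat.Prime 19 by norm_num) (by norm_num) h19
  rw [Subgroup.orderOf_mk] at heo hvo
  have hev' : Commute e v := congrArg Subtype.val hev.eq
  set H := (Subgroup.zpowers (π e)).comap π with hH
  have heH : e ∈ H := Subgroup.mem_zpowers (π e)
  obtain ⟨P, hP⟩ := (IsPGroup.of_card (n := 1) (by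
    rw [Nat.card_zpowers, ← Subgroup.orderOf_coe, pow_one]; exact heo) :
      IsPGroup 2 (Subgroup.zpowers (⟨e, heH⟩ : H))).exists_le_sylow
  set T := (P : Subgroup H).map H.subtype with hT
  have heT : e ∈ T := ⟨⟨e, heH⟩, hP (Subgroup.mem_zpowers _), rfl⟩
  obtain ⟨j0, hj0s, hj0, -⟩ := exists_lift_hom π hπ hk (A := Jc) (MulEquiv.refl _)
  set Y1 := Jc.comap π ⊓ Subgroup.normalizer (T : Set G) with hY1
  let f1 : Y1 →* Jc := j0.comp (Subgroup.inclusion inf_le_left)
  have hj0e : ∀ a b : Jc.comap π, π (a : G) = π (b : G) → j0 a = j0 b := fun a b hab => by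
    refine mul_inv_eq_one.mp ?_
    rw [← map_inv, ← map_mul, hj0]
    show π ((a : G) * (b : G)⁻¹) = 1
    rw [map_mul, map_inv, hab, mul_inv_cancel]
  have hs1 : Function.Surjective f1 := fun s => by
    obtain ⟨z, hz⟩ := hj0s s
    have hzN : (z : G) ∈ Subgroup.normalizer (H : Set G) := Subgroup.mem_normalizer_fintype fun b hb => by
      obtain ⟨i, hi⟩ := Subgroup.mem_zpowers_iff.mp hb
      show π ((z : G) * b * (z : G)⁻¹) ∈ Subgroup.zpowers (π e)
      rw [map_mul, map_mul, map_inv, ← hi, (((commute_of_ne hK hJc hne heK z.2).symm).zpow_right i).eq,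
        mul_inv_cancel_right]
      exact zpow_mem (Subgroup.mem_zpowers _) i
    obtain ⟨n, hn, d, hd, hnd⟩ := frattini_mem P hzN
    obtain ⟨i, hi⟩ := Subgroup.mem_zpowers_iff.mp hd
    have hπn : π (n * e ^ i) = π (z : G) := by rw [hnd, map_mul, map_mul, map_zpow, hi]
    have hmem : n * e ^ i ∈ Jc.comap π := show π (n * e ^ i) ∈ Jc by rw [hπn]; exact z.2
    exact ⟨⟨_, hmem, mul_mem hn (Subgroup.le_normalizer (zpow_mem heT i))⟩, (hj0e _ _ hπn).trans hz⟩
  set Y2 := Jc.comap π ⊓ Subgroup.centralizer ({e} : Set G) with hY2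
  let f2 : Y2 →* Jc := j0.comp (Subgroup.inclusion inf_le_left)
  have hs2 : Function.Surjective f2 := fun s => by
    obtain ⟨y, hy, hyC⟩ := cent_two h hJ.simp (by rw [hJ.card]; norm_num) T (P.2.map _) Y1 inf_le_right f1 hs1 s
    exact ⟨⟨y, y.2.1, Subgroup.mem_centralizer_singleton_iff.mpr (Subgroup.mem_centralizer_iff.mp hyC e heT).symm⟩, hy⟩
  have hπv : π v = 1 := (hg0 ⟨v, hvK⟩).mp hv1
  have hvY : v ∈ Y2 := ⟨show π v ∈ Jc by rw [hπv]; exact one_mem _,
    Subgroup.mem_centralizer_singleton_iff.mpr hev'.eq.symm⟩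
  have h19' : 19 ∣ Nat.card f2.ker := by
    rw [← hvo, ← Subgroup.orderOf_mk (H := Y2) v hvY]
    exact (Subgroup.orderOf_mk (H := f2.ker) _ ((hj0 (Subgroup.inclusion inf_le_left (⟨v, hvY⟩ : Y2))).mpr hπv)) ▸
      orderOf_dvd_natCard _
  obtain ⟨P19⟩ : Nonempty (Sylow 19 f2.ker) := inferInstance
  set P1 := (P19 : Subgroup f2.ker).map f2.ker.subtype with hP1
  set N := Subgroup.normalizer (P1 : Set Y2) with hN
  have hcov : Covers f2 N := fun a => by
    obtain ⟨c, hc⟩ := hs2 a
    have hmem : c ∈ N ⊔ f2.ker := by rw [hN, hP1, Sylow.normalizer_sup_eq_top P19]; exact Subgroup.mem_top c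
    obtain ⟨n, hn, k, hk, rfl⟩ := Subgroup.mem_sup_of_normal_right.mp hmem
    refine ⟨n, hn, ?_⟩
    rw [map_mul, MonoidHom.mem_ker.mp hk, mul_one] at hc
    exact hc
  haveI : (P1.subgroupOf N).Normal := Subgroup.normal_in_normalizer
  set D := P1.subgroupOf N with hD
  have hDl : IsPGroup 19 D := (P19.2.map _).of_equiv (Subgroup.subgroupOfEquivOfLe Subgroup.le_normalizer).symm
  have hDne : D ≠ ⊥ := fun e => by
    rw [hD, Subgroup.subgroupOf_eq_bot, disjoint_iff, inf_eq_left.mpr Subgroup.le_normalizer, hP1,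
      Subgroup.map_eq_bot_iff_of_injective _ f2.ker.subtype_injective] at e
    exact P19.ne_bot_of_dvd_card h19' e
  haveI := elemCenter_normal D 19
  have hOY := (h.subgroup Y2).subgroup N
  obtain ⟨E8, t7, hF, -⟩ := hJ.frob_eight
  obtain ⟨E, t, hft, hFE, hsurj, -⟩ := exists_lift_two hOY (f2.comp N.subtype) hcov.surj hF
  obtain ⟨g, hgf, hgo, w, -, hwo, hgw⟩ := frob_fixed hOY hJ.simp (f2.comp N.subtype) hcov.surj (elemCenter D 19)
    (elemCenter_comm D 19) (elemCenter_ne_bot hDl hDne) (show Nat.Prime 19 by norm_num) (fun a ha => ha.2.1)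
    (show 19 ≠ 2 by norm_num) (show 0 < 7 by norm_num) hFE (by rw [hft]; exact hF.order) (by
      obtain ⟨b, hb, hb1⟩ := hF.ne
      obtain ⟨c, hc, hcb⟩ := hsurj b hb
      exact ⟨c, hc, by rwa [hcb]⟩)
  refine h.triple (r := 7) (s := 19) (t := 2) (by norm_num) (by norm_num) Nat.prime_two
    (a := ((g : Y2) : G)) (b := ((w : Y2) : G)) (c := e)
    (by rw [Subgroup.orderOf_coe, Subgroup.orderOf_coe, hgo]) (by rw [Subgroup.orderOf_coe, Subgroup.orderOf_coe, hwo])
    (heo ▸ dvd_rfl) (congrArg (fun z : N => ((z : Y2) : G)) hgw.eq) ?_ ?_ (by decide) (by decide) (by decide)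
  · exact Subgroup.mem_centralizer_singleton_iff.mp (g : Y2).2.2
  · exact Subgroup.mem_centralizer_singleton_iff.mp (w : Y2).2.2

/-- `J1` alone over a solvable kernel. -/
theorem one_only {G : Type u} [Group G] [Finite G] (h : Orders G) (hp : Pairs G) {S : Type v} [Group S] [Finite S]
    (π : G →* S) (hπ : Function.Surjective π) (hk : Group.IsSolvable π.ker) (hJ : IsJ S) : False := by
  classical
  have hcardG : Nat.card G = Nat.card π.ker * 175560 := by
    rw [Subgroup.card_eq_card_quotient_mul_card_subgroup π.ker,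
      Nat.card_congr (QuotientGroup.quotientKerEquivOfSurjective π hπ).toEquiv, hJ.card, mul_comm]
  have hdvd : ∀ q ∈ ({7, 11, 19} : Finset ℕ), q ∣ Nat.card π.ker := by
    intro q hq
    by_contra hnd
    have hq' : q = 7 ∨ q = 11 ∨ q = 19 := by simpa using hq
    haveI : Fact q.Prime := ⟨by rcases hq' with rfl | rfl | rfl <;> norm_num⟩
    obtain ⟨x, hxo⟩ := exists_prime_orderOf_dvd_card' (G := G) q (by
      rw [hcardG]; exact Dvd.dvd.mul_left (by rcases hq' with rfl | rfl | rfl <;> norm_num) _)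
    have hπx : π x ≠ 1 := fun e => hnd (hxo ▸ (Subgroup.orderOf_mk (H := π.ker) x e) ▸
      orderOf_dvd_natCard (⟨x, e⟩ : π.ker))
    have hπxo : orderOf (π x) = q := orderOf_eq_prime (by rw [← map_pow, ← hxo, pow_orderOf_eq_one, map_one]) hπx
    set C := Subgroup.centralizer ({x} : Set G) with hC
    let φ : C →* S := π.comp C.subtype
    haveI := hk
    haveI hks : Group.IsSolvable φ.ker :=
      Group.isSolvable_of_isSolvable_injective (f := ((C.subtype.comp φ.ker.subtype).codRestrict π.ker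
        fun z => z.2)) fun a b h => Subtype.ext (Subtype.ext (congrArg (fun r : π.ker => (r : G)) h :))
    have hrange : IsPGroup q φ.range := fun z => ⟨1, by
      obtain ⟨c, hc⟩ := z.2
      refine Subtype.ext ?_
      rw [pow_one, Subgroup.coe_pow, Subgroup.coe_one]
      by_contra hzq
      obtain ⟨r, hr, hrd, hrq⟩ : ∃ r, r.Prime ∧ r ∣ orderOf (z : S) ∧ r ≠ q := by
        by_contra hcon
        push Not at hcon
        refine hzq (orderOf_dvd_iff_pow_eq_one.mp ?_)
        rcases eq_or_ne (orderOf (z : S)) 1 with e1 | e1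
        · rw [e1]; exact one_dvd _
        · obtain ⟨r, hr, m, hm⟩ := Nat.exists_prime_and_dvd e1
          rw [hcon r hr ⟨m, hm⟩] at hm
          rcases eq_or_ne m 1 with rfl | hm1
          · rw [hm, mul_one]
          · obtain ⟨r', hr', hd'⟩ := Nat.exists_prime_and_dvd hm1
            rw [hcon r' hr' (hd'.trans (Dvd.intro_left _ hm.symm))] at hd'
            exact absurd (hm ▸ mul_dvd_mul_left q hd') ((h.of_surjective π hπ).sqfree _ q Fact.out)
      have hcx : Commute (π x) (z : S) := by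
        rw [← hc]
        exact (show Commute x (c : G) from (Subgroup.mem_centralizer_singleton_iff.mp c.2).symm).map π
      exact hJ.not_commute ((Nat.coprime_primes hr Fact.out).mpr hrq) hr.one_lt hq'
        (exists_pow_prime hrd) hπxo (hcx.symm.pow_left _)⟩
    haveI : Group.IsSolvable φ.range := by
      haveI := hrange.isNilpotent
      infer_instance
    have hCs : Group.IsSolvable C :=
      Group.isSolvable_of_ker_le_range φ.ker.subtype φ.rangeRestrict (by
        rw [MonoidHom.ker_rangeRestrict, Subgroup.range_subtype])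
    have hrd : ∀ r ∈ Six, r ≠ q → r ∣ Nat.card C := fun r hr hrq => by
      obtain ⟨g, hg⟩ := hp q (by rcases hq' with rfl | rfl | rfl <;> decide) r hr hrq.symm
      have hr' := prime_of_six hr
      have hgr : orderOf (g ^ r) = q := by
        rw [orderOf_pow_of_dvd hr'.ne_zero (hg ▸ dvd_mul_left r q), hg, Nat.mul_div_cancel _ hr'.pos]
      obtain ⟨c, hc⟩ := conj_into (p := q) (by rw [← hxo]; exact orderOf_dvd_natCard x)
        (fun hd => by
          rw [hcardG, pow_two] at hd
          obtain ⟨m, hm, hqm⟩ : ∃ m, 175560 = q * m ∧ ¬ q ∣ m := by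
            rcases hq' with rfl | rfl | rfl
            · exact ⟨25080, by norm_num⟩
            · exact ⟨15960, by norm_num⟩
            · exact ⟨9240, by norm_num⟩
          rw [hm, mul_left_comm] at hd
          exact ((Fact.out : q.Prime).dvd_mul.mp (Nat.dvd_of_mul_dvd_mul_left (Fact.out : q.Prime).pos hd)).elim hnd hqm)
        (Subgroup.zpowers x) (by rw [Nat.card_zpowers, hxo]) hgr
      have hcom : Commute (c * g ^ r * c⁻¹) (c * g ^ q * c⁻¹) :=
        ((Commute.refl g).pow_pow r q).map (MulAut.conj c).toMonoidHom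
      have hgen : x ∈ Subgroup.zpowers (c * g ^ r * c⁻¹) := by
        have h1 : Subgroup.zpowers (c * g ^ r * c⁻¹) = Subgroup.zpowers x := by
          refine Subgroup.eq_of_le_of_card_ge (Subgroup.zpowers_le.mpr hc) ?_
          rw [Nat.card_zpowers, Nat.card_zpowers, hxo]
          exact le_of_eq ((orderOf_injective (MulAut.conj c).toMonoidHom (MulAut.conj c).injective _).trans hgr).symm
        rw [h1]; exact Subgroup.mem_zpowers x
      obtain ⟨j, hj⟩ := Subgroup.mem_zpowers_iff.mp hgen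
      have hmemC : c * g ^ q * c⁻¹ ∈ C :=
        Subgroup.mem_centralizer_singleton_iff.mpr (hj ▸ hcom.zpow_left j).eq.symm
      have ho : orderOf (c * g ^ q * c⁻¹) = r :=
        (orderOf_injective (MulAut.conj c).toMonoidHom (MulAut.conj c).injective _).trans (by
          rw [orderOf_pow_of_dvd (Fact.out : q.Prime).ne_zero (hg ▸ dvd_mul_right q r), hg,
            Nat.mul_div_cancel_left _ (Fact.out : q.Prime).pos])
      exact ho ▸ Subgroup.orderOf_dvd_natCard C hmemC
    obtain ⟨a, b, ha, hb, hab, haq, hbq, ha2, hb2⟩ : ∃ a b : ℕ, (a = 7 ∨ a = 11 ∨ a = 19) ∧ (b = 7 ∨ b = 11 ∨ b = 19) ∧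
        a ≠ b ∧ a ≠ q ∧ b ≠ q ∧ a ≠ 2 ∧ b ≠ 2 := by
      rcases hq' with rfl | rfl | rfl
      · exact ⟨11, 19, by norm_num⟩
      · exact ⟨7, 19, by norm_num⟩
      · exact ⟨7, 11, by norm_num⟩
    have hr : ∀ r, (r = 7 ∨ r = 11 ∨ r = 19) → r.Prime ∧ r ∈ Six := by rintro r (rfl | rfl | rfl) <;> decide
    refine lucido hCs Nat.prime_two (hr a ha).1 (hr b hb).1 ha2.symm hb2.symm hab
      (hrd 2 (by decide) (by omega)) (hrd a (hr a ha).2 haq) (hrd b (hr b hb).2 hbq) ?_
    intro g hg r hr' s hs' hrs hrd' hsd'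
    have hrs' : ∀ r ∈ ({2, a, b} : Finset ℕ), r.Prime ∧ cls r ≠ cls q := by
      intro r hr
      simp only [Finset.mem_insert, Finset.mem_singleton] at hr
      rcases hr with rfl | rfl | rfl
      · exact ⟨Nat.prime_two, by rcases hq' with rfl | rfl | rfl <;> decide⟩
      · rcases ha with rfl | rfl | rfl <;> rcases hq' with rfl | rfl | rfl <;> simp_all [cls]
      · rcases hb with rfl | rfl | rfl <;> rcases hq' with rfl | rfl | rfl <;> simp_all [cls]
    refine h.triple (hrs' r hr').1 (hrs' s hs').1 Fact.out hrd' hsd' (hxo ▸ dvd_rfl) (Commute.refl g)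
      (Subgroup.mem_centralizer_singleton_iff.mp hg) (Subgroup.mem_centralizer_singleton_iff.mp hg)
      ?_ (hrs' r hr').2 (hrs' s hs').2
    simp only [Finset.mem_insert, Finset.mem_singleton] at hr' hs'
    rcases hr' with rfl | rfl | rfl <;> rcases hs' with rfl | rfl | rfl <;> first
      | exact absurd rfl hrs
      | (rcases ha with rfl | rfl | rfl <;> rcases hb with rfl | rfl | rfl <;> simp_all [cls])
  -- all three divide the kernel
  haveI : Fact (Nat.Prime 2) := ⟨Nat.prime_two⟩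
  obtain ⟨H, hHR, hH1, hH2⟩ := CfsgLib.exists_isPiHallOf (({7, 11, 19} : Finset ℕ) : Set ℕ) (M := π.ker) hk
  have hHd : ∀ q ∈ ({7, 11, 19} : Finset ℕ), q ∣ Nat.card H := fun q hq => by
    have hqp : q.Prime := by
      simp only [Finset.mem_insert, Finset.mem_singleton] at hq; rcases hq with rfl | rfl | rfl <;> norm_num
    have hd := hdvd q hq
    rw [← CfsgLib.card_mul_relIndex hHR] at hd
    exact (hqp.dvd_mul.mp hd).resolve_right (hH2 q hqp hq)
  have hodd : Odd (Nat.card H) := by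
    rw [← Nat.not_even_iff_odd, even_iff_two_dvd]
    intro hd
    have h2 := hH1 2 Nat.prime_two hd
    exact absurd (Finset.mem_coe.mp h2) (by decide)
  set Y0 := Subgroup.normalizer (H : Set G) with hY0
  let f0 : Y0 →* S := π.comp Y0.subtype
  have hs0 : Function.Surjective f0 := fun s => by
    obtain ⟨c, hc⟩ := hπ s
    have hmem : c ∈ π.ker ⊔ Y0 := by
      rw [hY0, CfsgLib.hall_frattini hk hHR (Nat.coprime_of_dvd fun r hr h1 h2 => hH2 r hr (hH1 r hr h1) h2)]
      exact Subgroup.mem_top c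
    obtain ⟨k, hk', n, hn, rfl⟩ := Subgroup.mem_sup_of_normal_left.mp hmem
    refine ⟨⟨n, hn⟩, ?_⟩
    rw [map_mul, MonoidHom.mem_ker.mp hk', one_mul] at hc
    exact hc
  obtain ⟨P⟩ : Nonempty (Sylow 2 f0.ker) := inferInstance
  set T := (P : Subgroup f0.ker).map f0.ker.subtype with hT
  have hO0 := h.subgroup Y0
  have hcovN : Covers f0 (Subgroup.normalizer (T : Set Y0)) := fun a => by
    obtain ⟨c, hc⟩ := hs0 a
    have hmem : c ∈ Subgroup.normalizer (T : Set Y0) ⊔ f0.ker := by
      rw [hT, Sylow.normalizer_sup_eq_top P]; exact Subgroup.mem_top c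
    obtain ⟨n, hn, k, hk', rfl⟩ := Subgroup.mem_sup_of_normal_right.mp hmem
    refine ⟨n, hn, ?_⟩
    rw [map_mul, MonoidHom.mem_ker.mp hk', mul_one] at hc
    exact hc
  set Y := Subgroup.centralizer (T : Set Y0) ⊓ Subgroup.normalizer (T : Set Y0) with hY
  have hcov : Covers f0 Y := cover_two hO0 hJ.simp (by rw [hJ.card]; norm_num) f0 T (P.2.map _) hcovN
  obtain ⟨E8, t7, hF, hE8⟩ := hJ.frob_eight
  obtain ⟨E, t, hft, hFE, hsurj, hEf⟩ := exists_lift_two (hO0.subgroup Y) (f0.comp Y.subtype) hcov.surj hF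
  have hinj : ∀ a ∈ E, f0 (a : Y0) = 1 → a = 1 := fun a ha hfa => by
    refine hFE.free 1 one_pos (by norm_num) a ha ?_
    rw [pow_one]
    obtain ⟨k, hk⟩ := hFE.pgroup ⟨a, ha⟩
    have haT : (a : Y0) ∈ T := by
      set a' : f0.ker := ⟨(a : Y0), hfa⟩ with ha'
      have hz : IsPGroup 2 (Subgroup.zpowers a') := by
        have hd : orderOf a' ∣ 2 ^ k := by
          rw [← Subgroup.orderOf_coe]
          show orderOf (a : Y0) ∣ 2 ^ k
          rw [Subgroup.orderOf_coe]
          exact orderOf_dvd_of_pow_eq_one (by simpa using congrArg Subtype.val hk)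
        obtain ⟨j, -, hj⟩ := (Nat.dvd_prime_pow Nat.prime_two).mp hd
        exact IsPGroup.of_card (n := j) (by rw [Nat.card_zpowers, hj])
      have hn : a' ∈ Subgroup.normalizer ((P : Subgroup f0.ker) : Set f0.ker) :=
        Subgroup.mem_normalizer_fintype fun d hd => by
          have e1 : a' * d * a'⁻¹ = d := by
            apply Subtype.ext
            show (a : Y0) * (d : Y0) * (a : Y0)⁻¹ = d
            rw [← Subgroup.mem_centralizer_iff.mp a.2.1 (d : Y0) ⟨d, hd, rfl⟩, mul_inv_cancel_right]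
          rw [e1]; exact hd
      have hmem : a' ∈ Subgroup.zpowers a' ⊓ (P : Subgroup f0.ker) := by
        rw [← hz.inf_normalizer_sylow P]; exact ⟨Subgroup.mem_zpowers a', hn⟩
      exact ⟨a', hmem.2, rfl⟩
    exact Subtype.ext (Subgroup.mem_centralizer_iff.mp t.2.1 _ haT).symm
  have hEc : Nat.card E = 8 := by
    rw [← hE8]
    refine Nat.card_eq_of_bijective (fun a : E => (⟨f0 ((a : Y) : Y0), hEf a a.2⟩ : E8)) ⟨fun a b hab => ?_, fun b => ?_⟩
    · have h1 : f0 ((a : Y) : Y0) = f0 ((b : Y) : Y0) := congrArg Subtype.val hab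
      refine Subtype.ext (mul_inv_eq_one.mp (hinj _ (mul_mem a.2 (inv_mem b.2)) ?_))
      show f0 (((a : Y) : Y0) * ((b : Y) : Y0)⁻¹) = 1
      rw [map_mul, map_inv, h1, mul_inv_cancel]
    · obtain ⟨c, hc, hcb⟩ := hsurj b b.2
      exact ⟨⟨c, hc⟩, Subtype.ext hcb⟩
  obtain ⟨a, ha, ha1⟩ := hFE.ne
  have htr : ∀ b ∈ E, b ≠ 1 → ∃ i : ℕ, t ^ i * b * (t ^ i)⁻¹ = a := by
    intro b hb hb1
    let φ : Fin 7 → {e : E // e ≠ 1} := fun i => ⟨⟨t ^ (i : ℕ) * b * (t ^ (i : ℕ))⁻¹,
      (Subgroup.mem_normalizer_iff.mp (Subgroup.pow_mem _ hFE.norm _) b).mp hb⟩,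
      fun e => hb1 (conj_eq_one_iff.mp (congrArg Subtype.val e))⟩
    have hφ : Function.Injective φ := by
      have key : ∀ i j : ℕ, i < j → j < 7 → t ^ i * b * (t ^ i)⁻¹ = t ^ j * b * (t ^ j)⁻¹ → False := by
        intro i j hij hj he
        refine hb1 (hFE.free (j - i) (by omega) (by omega) b hb ?_)
        have e1 : t ^ j = t ^ i * t ^ (j - i) := by rw [← pow_add, Nat.add_sub_cancel' hij.le]
        rw [e1] at he
        refine mul_inv_eq_iff_eq_mul.mp (mul_left_cancel (a := t ^ i) (mul_right_cancel (b := (t ^ i)⁻¹) ?_))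
        calc t ^ i * (t ^ (j - i) * b * (t ^ (j - i))⁻¹) * (t ^ i)⁻¹
            = t ^ i * t ^ (j - i) * b * (t ^ i * t ^ (j - i))⁻¹ := by group
          _ = t ^ i * b * (t ^ i)⁻¹ := he.symm
      intro i j hij
      have he : t ^ (i : ℕ) * b * (t ^ (i : ℕ))⁻¹ = t ^ (j : ℕ) * b * (t ^ (j : ℕ))⁻¹ :=
        congrArg (fun z : {e : E // e ≠ 1} => ((z : E) : Y)) hij
      rcases lt_trichotomy (i : ℕ) j with hl | hl | hl
      · exact (key i j hl j.2 he).elim
      · exact Fin.ext hl
      · exact (key j i hl i.2 he.symm).elim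
    have hcard : Nat.card {e : E // e ≠ 1} = 7 := by
      haveI := Fintype.ofFinite E
      rw [Nat.card_eq_fintype_card, Fintype.card_subtype_compl, Fintype.card_subtype_eq,
        ← Nat.card_eq_fintype_card, hEc]
    obtain ⟨i, hi⟩ := ((Nat.bijective_iff_injective_and_card φ).mpr ⟨hφ, by rw [Nat.card_fin, hcard]⟩).2
      ⟨⟨a, ha⟩, fun e => ha1 (congrArg Subtype.val e)⟩
    exact ⟨i, congrArg (fun z : {e : E // e ≠ 1} => ((z : E) : Y)) hi⟩
  obtain ⟨b, hb, hbz⟩ : ∃ b ∈ E, b ∉ Subgroup.zpowers a := by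
    by_contra hcon
    push Not at hcon
    have h1 := Nat.le_of_dvd Nat.card_pos (Subgroup.card_dvd_of_le (fun x hx => hcon x hx : E ≤ Subgroup.zpowers a))
    have ha2 : a ^ 2 = 1 := (hO0.subgroup Y).pgroup Nat.prime_two hFE.pgroup ha
    rw [Nat.card_zpowers, orderOf_eq_prime ha2 ha1, hEc] at h1
    omega
  set C := H ⊓ Subgroup.centralizer ({((a : Y0) : G)} : Set G) with hC
  have hCl : ∀ l ∈ ({7, 11, 19} : Finset ℕ), l ∣ Nat.card C := by
    intro l hl
    have hlp : l.Prime := by
      simp only [Finset.mem_insert, Finset.mem_singleton] at hl; rcases hl with rfl | rfl | rfl <;> norm_num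
    haveI := Fact.mk hlp
    have hl2 : l ≠ 2 := by rintro rfl; revert hl; decide
    let ψ : E →* MulAut H := H.normalizerMonoidHom.comp (Y.subtype.comp E.subtype)
    letI : MulDistribMulAction E H := MulDistribMulAction.compHom H ψ
    have hcount : ¬ 2 ∣ Nat.card (Sylow l H) := fun h2 => Nat.not_even_iff_odd.mpr hodd (even_iff_two_dvd.mpr
      (h2.trans ((Sylow.card_dvd_index default).trans (Subgroup.index_dvd_card _))))
    obtain ⟨SL, hSL⟩ := hFE.pgroup.nonempty_fixed_point_of_prime_not_dvd_card (Sylow l H) hcount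
    set P1 := (SL : Subgroup H).map H.subtype with hP1
    set N := Subgroup.normalizer (P1 : Set G) with hN
    have hEN : ∀ e ∈ E, ((e : Y0) : G) ∈ N := fun e he => Subgroup.mem_normalizer_fintype fun d hd => by
      obtain ⟨k, hk, rfl⟩ := hd
      have h2 := Subgroup.smul_mem_pointwise_smul k (⟨e, he⟩ : E) (SL : Subgroup H) hk
      have h3 : (⟨e, he⟩ : E) • SL = SL := hSL ⟨e, he⟩
      open scoped Pointwise in
      have h4 : (⟨e, he⟩ : E) • (SL : Subgroup H) = ((SL : Sylow l H) : Subgroup H) :=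
        (Sylow.pointwise_smul_def (g := (⟨e, he⟩ : E)) (P := SL)).symm.trans
          (congrArg (fun Q : Sylow l H => (Q : Subgroup H)) h3)
      replace h2 : (⟨e, he⟩ : E) • k ∈ (SL : Subgroup H) := h4.le h2
      exact ⟨(⟨e, he⟩ : E) • k, h2, rfl⟩
    haveI : (P1.subgroupOf N).Normal := Subgroup.normal_in_normalizer
    set D := P1.subgroupOf N with hD
    have hDl : IsPGroup l D := (SL.2.map _).of_equiv (Subgroup.subgroupOfEquivOfLe Subgroup.le_normalizer).symm
    have hDne : D ≠ ⊥ := fun e => by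
      rw [hD, Subgroup.subgroupOf_eq_bot, disjoint_iff, inf_eq_left.mpr Subgroup.le_normalizer, hP1,
        Subgroup.map_eq_bot_iff_of_injective _ H.subtype_injective] at e
      exact SL.ne_bot_of_dvd_card (hHd l hl) e
    haveI := elemCenter_normal D l
    have hord : ∀ x ∈ E, x ≠ 1 → orderOf ((x : Y0) : G) = 2 := fun x hx hx1 => by
      rw [Subgroup.orderOf_coe, Subgroup.orderOf_coe]
      exact orderOf_eq_prime ((hO0.subgroup Y).pgroup Nat.prime_two hFE.pgroup hx) hx1
    let A : N := ⟨_, hEN a ha⟩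
    let B : N := ⟨_, hEN b hb⟩
    obtain ⟨e, he, heo, v, hv, hv1, hev⟩ := exists_fixed_pair (L := elemCenter D l) (elemCenter_comm D l)
      (elemCenter_ne_bot hDl hDne) hlp (fun x hx => hx.2.1) Nat.prime_two hl2
      (a := A) (b := B) (by rw [← Subgroup.orderOf_coe]; exact hord a ha ha1)
      (by rw [← Subgroup.orderOf_coe]; exact hord b hb fun e => hbz (e ▸ one_mem _))
      (Subtype.ext (congrArg (fun z : Y => ((z : Y0) : G)) ((hO0.subgroup Y).commute_two hFE.pgroup ha hb).eq))
      (fun hz => by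
        obtain ⟨i, hi⟩ := Subgroup.mem_zpowers_iff.mp hz
        refine hbz (Subgroup.mem_zpowers_iff.mpr ⟨i, Subtype.ext (Subtype.ext ?_)⟩)
        have := congrArg Subtype.val hi
        simpa [A, B] using this)
    obtain ⟨e', he', hee'⟩ : ∃ e' ∈ E, ((e' : Y0) : G) = (e : G) := by
      have hle : (Subgroup.closure ({A, B} : Set N)).map N.subtype ≤ (E.map Y.subtype).map Y0.subtype := by
        rw [MonoidHom.map_closure, Subgroup.closure_le]
        rintro _ ⟨z, rfl | rfl, rfl⟩
        · exact ⟨_, ⟨a, ha, rfl⟩, rfl⟩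
        · exact ⟨_, ⟨b, hb, rfl⟩, rfl⟩
      obtain ⟨_, ⟨e', he', rfl⟩, h2⟩ := hle (Subgroup.mem_map_of_mem _ he)
      exact ⟨e', he', h2⟩
    have he1 : e' ≠ 1 := fun e1 => by
      rw [e1] at hee'
      rw [show e = 1 from Subtype.ext hee'.symm, orderOf_one] at heo
      norm_num at heo
    obtain ⟨i, hi⟩ := htr e' he' he1
    have hvH : (v : G) ∈ H := Subgroup.map_subtype_le _ (Subgroup.mem_subgroupOf.mp hv.1)
    set c : G := (((t ^ i : Y) : Y0) : G) with hc
    have hcN : c ∈ Subgroup.normalizer (H : Set G) := ((t ^ i : Y) : Y0).2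
    have hvC : c * (v : G) * c⁻¹ ∈ C := by
      refine ⟨(Subgroup.mem_normalizer_iff.mp hcN _).mp hvH, Subgroup.mem_centralizer_singleton_iff.mpr ?_⟩
      have hai : ((a : Y0) : G) = c * (e : G) * c⁻¹ := by
        rw [← hee', ← hi, hc]; rfl
      rw [hai]
      exact ((show Commute (e : G) (v : G) from congrArg Subtype.val hev.eq).map (MulAut.conj c).toMonoidHom).eq.symm
    have hvo : orderOf (c * (v : G) * c⁻¹) = l :=
      (orderOf_injective (MulAut.conj c).toMonoidHom (MulAut.conj c).injective _).trans (by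
        rw [Subgroup.orderOf_coe]; exact orderOf_eq_prime hv.2.1 hv1)
    exact hvo ▸ Subgroup.orderOf_dvd_natCard C hvC
  haveI := hk
  have hCs : Group.IsSolvable C := Group.isSolvable_of_isSolvable_injective
    (f := Subgroup.inclusion ((inf_le_left : C ≤ H).trans hHR)) (Subgroup.inclusion_injective _)
  refine lucido hCs (show Nat.Prime 7 by norm_num) (show Nat.Prime 11 by norm_num) (show Nat.Prime 19 by norm_num)
    (by norm_num) (by norm_num) (by norm_num) (hCl 7 (by decide)) (hCl 11 (by decide)) (hCl 19 (by decide)) ?_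
  intro g hg r hr s hs hrs hrd hsd
  have ha2 : orderOf ((a : Y0) : G) = 2 := by
    rw [Subgroup.orderOf_coe, Subgroup.orderOf_coe]
    exact orderOf_eq_prime ((hO0.subgroup Y).pgroup Nat.prime_two hFE.pgroup ha) ha1
  have hr' : r.Prime ∧ s.Prime ∧ cls r ≠ cls s ∧ cls r ≠ cls 2 ∧ cls s ≠ cls 2 := by
    simp only [Finset.mem_insert, Finset.mem_singleton] at hr hs
    rcases hr with rfl | rfl | rfl <;> rcases hs with rfl | rfl | rfl <;> first | exact absurd rfl hrs | decide
  exact h.triple hr'.1 hr'.2.1 Nat.prime_two hrd hsd (ha2 ▸ dvd_rfl) (Commute.refl g)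
    (Subgroup.mem_centralizer_singleton_iff.mp hg.2) (Subgroup.mem_centralizer_singleton_iff.mp hg.2) hr'.2.2.1
    hr'.2.2.2.1 hr'.2.2.2.2

end CfsgLib.J1Square
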