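import Cfsg.Agent.Lib.Basic

/-!
Element orders allowed by the square of the first Janko group.
-/

set_option autoImplicit false
set_option linter.unusedSectionVars false
set_option linter.style.haveILetI false

namespace CfsgLib.J1Square

universe u v

/-- The primes of the spectrum. -/
def Six : Finset ℕ := {2, 3, 5, 7, 11, 19}

/-- The four classes `{2, 3, 5}`, `{7}`, `{11}`, `{19}` of primes. -/
def cls (r : ℕ) : ℕ := if r = 7 then 1 else if r = 11 then 2 else if r = 19 then 3 else 0

theorem mem_six {r : ℕ} (h : r ∈ Six) : r = 2 ∨ r = 3 ∨ r = 5 ∨ r = 7 ∨ r = 11 ∨ r = 19 := by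
  simpa [Six] using h

theorem prime_of_six {r : ℕ} (h : r ∈ Six) : r.Prime := by
  rcases mem_six h with rfl | rfl | rfl | rfl | rfl | rfl <;> norm_num

/-- The constraints on element orders. -/
structure Orders (G : Type u) [Group G] : Prop where
  primes : ∀ (g : G) (r : ℕ), r.Prime → r ∣ orderOf g → r ∈ Six
  sqfree : ∀ (g : G) (r : ℕ), r.Prime → ¬ r * r ∣ orderOf g
  no_three : ∀ (g : G) (r s t : ℕ), r.Prime → s.Prime → t.Prime → r ∣ orderOf g → s ∣ orderOf g → t ∣ orderOf g →
    cls r ≠ cls s → cls r ≠ cls t → cls s ≠ cls t → False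
  no_deep : ∀ (g : G) (x : ℕ), x = 7 ∨ x = 11 ∨ x = 19 → ¬ 30 * x ∣ orderOf g

/-- Every pair of the primes is an element order. -/
def Pairs (G : Type u) [Group G] : Prop :=
  ∀ r ∈ Six, ∀ s ∈ Six, r ≠ s → ∃ g : G, orderOf g = r * s

variable {G : Type u} [Group G]

theorem Orders.of_injective {H : Type v} [Group H] (h : Orders G) (f : H →* G) (hf : Function.Injective f) :
    Orders H where
  primes g r hr hd := h.primes (f g) r hr (by rwa [orderOf_injective f hf])
  sqfree g r hr hd := h.sqfree (f g) r hr (by rwa [orderOf_injective f hf])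
  no_three g r s t hr hs ht dr ds dt := by
    refine h.no_three (f g) r s t hr hs ht ?_ ?_ ?_ <;> rwa [orderOf_injective f hf]
  no_deep g x hx hd := h.no_deep (f g) x hx (by rwa [orderOf_injective f hf])

theorem Orders.of_surjective {H : Type v} [Group H] (h : Orders G) (f : G →* H) (hf : Function.Surjective f) :
    Orders H where
  primes g r hr hd := by
    obtain ⟨a, rfl⟩ := hf g
    exact h.primes a r hr (hd.trans (orderOf_map_dvd f a))
  sqfree g r hr hd := by
    obtain ⟨a, rfl⟩ := hf g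
    exact h.sqfree a r hr (hd.trans (orderOf_map_dvd f a))
  no_three g r s t hr hs ht dr ds dt := by
    obtain ⟨a, rfl⟩ := hf g
    exact h.no_three a r s t hr hs ht (dr.trans (orderOf_map_dvd f a)) (ds.trans (orderOf_map_dvd f a))
      (dt.trans (orderOf_map_dvd f a))
  no_deep g x hx hd := by
    obtain ⟨a, rfl⟩ := hf g
    exact h.no_deep a x hx (hd.trans (orderOf_map_dvd f a))

theorem Orders.subgroup (h : Orders G) (H : Subgroup G) : Orders H :=
  h.of_injective H.subtype Subtype.val_injective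

theorem Orders.quotient (h : Orders G) (N : Subgroup G) [N.Normal] : Orders (G ⧸ N) :=
  h.of_surjective (QuotientGroup.mk' N) (QuotientGroup.mk'_surjective N)

variable [Finite G]

theorem Orders.card_primes (h : Orders G) {r : ℕ} (hr : r.Prime) (hd : r ∣ Nat.card G) : r ∈ Six := by
  haveI := Fact.mk hr
  obtain ⟨g, hg⟩ := exists_prime_orderOf_dvd_card' r hd
  exact h.primes g r hr (hg.symm ▸ dvd_rfl)

/-- An element of prime-power order has order dividing the prime. -/
theorem Orders.pow_prime (h : Orders G) {p : ℕ} (hp : p.Prime) {g : G} {k : ℕ} (hg : g ^ p ^ k = 1) : g ^ p = 1 := by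
  obtain ⟨j, -, hj⟩ := (Nat.dvd_prime_pow hp).mp (orderOf_dvd_of_pow_eq_one hg)
  refine orderOf_dvd_iff_pow_eq_one.mp ?_
  rcases j with _ | _ | j
  · simp [hj]
  · simp [hj]
  · exact absurd (hj ▸ (by rw [← pow_two]; exact pow_dvd_pow p (by omega) : p * p ∣ p ^ (j + 1 + 1)))
      (h.sqfree g p hp)

theorem Orders.pgroup (h : Orders G) {p : ℕ} (hp : p.Prime) {P : Subgroup G} (hP : IsPGroup p P) {g : G}
    (hg : g ∈ P) : g ^ p = 1 := by
  obtain ⟨k, hk⟩ := hP ⟨g, hg⟩
  exact h.pow_prime hp (k := k) (by simpa using congrArg Subtype.val hk)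

/-- Two elements of a `2`-subgroup commute. -/
theorem Orders.commute_two (h : Orders G) {P : Subgroup G} (hP : IsPGroup 2 P) {a b : G} (ha : a ∈ P) (hb : b ∈ P) :
    Commute a b := by
  have h1 : ∀ x ∈ P, x⁻¹ = x := fun x hx =>
    inv_eq_of_mul_eq_one_right (by rw [← pow_two]; exact h.pgroup Nat.prime_two hP hx)
  show a * b = b * a
  rw [← h1 _ (mul_mem ha hb), mul_inv_rev, h1 a ha, h1 b hb]

omit [Finite G] in
/-- A power of the given order of a preimage. -/
theorem exists_pow_lift [Finite G] (h : Orders G) {S : Type v} [Group S] (f : G →* S) (g : G) :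
    ∃ n : ℕ, f (g ^ n) = f g ∧ orderOf (g ^ n) = orderOf (f g) := by
  set k := orderOf (f g) with hk
  obtain ⟨d, hd⟩ := orderOf_map_dvd f g
  rw [← hk] at hd
  have hk0 : k ≠ 0 := fun e => (orderOf_pos g).ne' (by rw [hd, e, zero_mul])
  have hcop : d.Coprime k := by
    refine Nat.coprime_of_dvd fun r hr h1 h2 => h.sqfree g r hr ?_
    rw [hd, mul_comm k d]
    exact mul_dvd_mul h1 h2
  obtain ⟨j, hj⟩ := exists_pow_eq_self_of_coprime (x := f g) (n := d) (by rw [← hk]; exact hcop)
  refine ⟨d * j, by rw [map_pow, pow_mul, hj], Nat.dvd_antisymm (orderOf_dvd_of_pow_eq_one ?_) ?_⟩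
  · rw [← pow_mul, show d * j * k = orderOf g * j by rw [hd]; ring, pow_mul, pow_orderOf_eq_one, one_pow]
  · have h1 := orderOf_map_dvd f (g ^ (d * j))
    rwa [map_pow, pow_mul, hj, ← hk] at h1

/-- A prime dividing the order is the order of a power. -/
theorem exists_pow_prime {g : G} {r : ℕ} (hd : r ∣ orderOf g) : orderOf (g ^ (orderOf g / r)) = r :=
  orderOf_pow_orderOf_div (orderOf_pos g).ne' hd

/-- The product of commuting elements is an element whose order is divisible by both orders. -/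
theorem exists_common {a b : G} {r s : ℕ} (hrs : r.Coprime s) (ha : r ∣ orderOf a) (hb : s ∣ orderOf b)
    (hab : Commute a b) : ∃ i j : ℕ, orderOf (a ^ i * b ^ j) = r * s := by
  refine ⟨orderOf a / r, orderOf b / s, ?_⟩
  rw [(hab.pow_pow _ _).orderOf_mul_eq_mul_orderOf_of_coprime] <;>
    rw [exists_pow_prime ha, exists_pow_prime hb]
  exact hrs

/-- No three commuting elements in three classes. -/
theorem Orders.triple (h : Orders G) {a b c : G} {r s t : ℕ} (hr : r.Prime) (hs : s.Prime) (ht : t.Prime)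
    (ha : r ∣ orderOf a) (hb : s ∣ orderOf b) (hc : t ∣ orderOf c) (hab : Commute a b) (hac : Commute a c)
    (hbc : Commute b c) (h1 : cls r ≠ cls s) (h2 : cls r ≠ cls t) (h3 : cls s ≠ cls t) : False := by
  have crs : r.Coprime s := (Nat.coprime_primes hr hs).mpr fun e => h1 (by rw [e])
  have crt : r.Coprime t := (Nat.coprime_primes hr ht).mpr fun e => h2 (by rw [e])
  have cst : s.Coprime t := (Nat.coprime_primes hs ht).mpr fun e => h3 (by rw [e])
  obtain ⟨i, j, e1⟩ := exists_common crs ha hb hab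
  obtain ⟨m, n, e2⟩ := exists_common (a := a ^ i * b ^ j) (crt.mul_left cst) (e1 ▸ dvd_rfl) hc
    ((hac.pow_left i).mul_left (hbc.pow_left j))
  refine h.no_three ((a ^ i * b ^ j) ^ m * c ^ n) r s t hr hs ht ?_ ?_ ?_ h1 h2 h3 <;> rw [e2]
  · exact (Dvd.intro _ rfl).trans (Dvd.intro _ rfl)
  · exact (Dvd.intro_left _ rfl).trans (Dvd.intro _ rfl)
  · exact Dvd.intro_left _ rfl

/-- No four commuting elements of orders `2, 3, 5` and one of `7, 11, 19`. -/
theorem Orders.quad (h : Orders G) {a b c d : G} {x : ℕ} (hx : x = 7 ∨ x = 11 ∨ x = 19) (ha : 2 ∣ orderOf a)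
    (hb : 3 ∣ orderOf b) (hc : 5 ∣ orderOf c) (hd : x ∣ orderOf d) (hab : Commute a b) (hac : Commute a c)
    (had : Commute a d) (hbc : Commute b c) (hbd : Commute b d) (hcd : Commute c d) : False := by
  obtain ⟨i, j, e1⟩ := exists_common (show Nat.Coprime 2 3 by norm_num) ha hb hab
  obtain ⟨m, n, e2⟩ := exists_common (a := a ^ i * b ^ j) (show Nat.Coprime (2 * 3) 5 by norm_num) (e1 ▸ dvd_rfl) hc
    ((hac.pow_left i).mul_left (hbc.pow_left j))
  obtain ⟨p, q, e3⟩ := exists_common (a := (a ^ i * b ^ j) ^ m * c ^ n)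
    (show Nat.Coprime (2 * 3 * 5) x by rcases hx with rfl | rfl | rfl <;> norm_num) (e2 ▸ dvd_rfl) hd
    ((((had.pow_left i).mul_left (hbd.pow_left j)).pow_left m).mul_left (hcd.pow_left n))
  exact h.no_deep _ x hx (by rw [e3])

end CfsgLib.J1Square
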