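import Cfsg.Agent.Lib.J1Square.Orders
import Cfsg.Agent.Lib.SzPairGen.Tools

/-!
Coverings of simple groups inside the spectrum of the square of the first Janko group.
-/

set_option autoImplicit false
set_option maxHeartbeats 1000000
set_option linter.unusedSectionVars false
set_option linter.style.haveILetI false

namespace CfsgLib.J1Square

open scoped commutatorElement
open CfsgLib.SzPairGen (elemCenter elemCenter_normal elemCenter_comm elemCenter_ne_bot)

universe u v

variable {X : Type u} [Group X] [Finite X] {S : Type v} [Group S]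

/-- Simple and not commutative. -/
def Simp (S : Type v) [Group S] : Prop := IsSimpleGroup S ∧ ∃ a b : S, a * b ≠ b * a

/-- `H` maps onto the whole of `S`. -/
def Covers (f : X →* S) (H : Subgroup X) : Prop := ∀ s : S, ∃ h ∈ H, f h = s

theorem Covers.mono {f : X →* S} {H K : Subgroup X} (h : Covers f H) (hle : H ≤ K) : Covers f K := fun s => by
  obtain ⟨x, hx, hxs⟩ := h s
  exact ⟨x, hle hx, hxs⟩

theorem Covers.surj {f : X →* S} {H : Subgroup X} (h : Covers f H) : Function.Surjective (f.comp H.subtype) :=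
  fun s => by
    obtain ⟨x, hx, hxs⟩ := h s
    exact ⟨⟨x, hx⟩, hxs⟩

theorem covers_or_le (hS : Simp S) (f : X →* S) (hf : Function.Surjective f) (H : Subgroup X) [H.Normal] :
    Covers f H ∨ H ≤ f.ker := by
  have := hS.1
  rcases Subgroup.Normal.eq_bot_or_eq_top (Subgroup.Normal.map (inferInstance : H.Normal) f hf) with h | h
  · exact Or.inr ((Subgroup.map_eq_bot_iff H).mp h)
  · exact Or.inl fun s => Subgroup.mem_map.mp (h ▸ Subgroup.mem_top s)

/-- Where the normaliser of a `2`-subgroup covers, so does its centraliser. -/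
theorem cover_two (h : Orders X) (hS : Simp S) (h2 : 2 ∣ Nat.card S) (f : X →* S) (T : Subgroup X)
    (hT : IsPGroup 2 T) (hcov : Covers f (Subgroup.normalizer (T : Set X))) :
    Covers f (Subgroup.centralizer (T : Set X) ⊓ Subgroup.normalizer (T : Set X)) := by
  haveI : Fact (Nat.Prime 2) := ⟨Nat.prime_two⟩
  set N := Subgroup.normalizer (T : Set X) with hN
  have hf := hcov.surj
  haveI : Finite S := Finite.of_surjective _ hf
  haveI : (T.subgroupOf N).Normal := Subgroup.normal_in_normalizer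
  obtain ⟨P⟩ : Nonempty (Sylow 2 N) := inferInstance
  have hTP : T.subgroupOf N ≤ (P : Subgroup N) := by
    have hp : IsPGroup 2 (T.subgroupOf N) := hT.of_equiv (Subgroup.subgroupOfEquivOfLe Subgroup.le_normalizer).symm
    have h1 : IsPGroup 2 ((P : Subgroup N) ⊔ T.subgroupOf N : Subgroup N) := P.2.to_sup_of_normal_right hp
    exact le_sup_right.trans (P.3 h1 le_sup_left).le
  set C := (Subgroup.centralizer (T : Set X)).subgroupOf N with hC
  haveI : C.Normal := ⟨fun c hc n => by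
    rw [hC, Subgroup.mem_subgroupOf, Subgroup.mem_centralizer_iff] at hc ⊢
    intro t ht
    have ht' : (n : X)⁻¹ * t * n ∈ T := by
      have := (Subgroup.mem_normalizer_iff.mp (inv_mem n.2) t).mp ht
      simpa using this
    have e := hc _ ht'
    calc t * ((n : X) * c * (n : X)⁻¹) = n * ((n : X)⁻¹ * t * n * c) * (n : X)⁻¹ := by group
      _ = n * (c * ((n : X)⁻¹ * t * n)) * (n : X)⁻¹ := by rw [e]
      _ = (n : X) * c * (n : X)⁻¹ * t := by group⟩
  have hPC : (P : Subgroup N) ≤ C := fun a ha => by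
    rw [hC, Subgroup.mem_subgroupOf, Subgroup.mem_centralizer_iff]
    intro t ht
    exact congrArg Subtype.val ((h.subgroup N).commute_two P.2
      (hTP (show (⟨t, Subgroup.le_normalizer ht⟩ : N) ∈ T.subgroupOf N from ht)) ha).eq
  rcases covers_or_le hS (f.comp N.subtype) hf C with hc | hc
  · intro s
    obtain ⟨a, ha, has⟩ := hc s
    exact ⟨(a : X), ⟨Subgroup.mem_subgroupOf.mp ha, a.2⟩, has⟩
  · exfalso
    have hle : ((P : Subgroup N)).map (f.comp N.subtype) = ⊥ := (Subgroup.map_eq_bot_iff _).mpr (hPC.trans hc)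
    have h1 : ((P.mapSurjective hf : Sylow 2 S) : Subgroup S) = ⊥ := by rw [Sylow.coe_mapSurjective]; exact hle
    exact (P.mapSurjective hf).ne_bot_of_dvd_card h2 h1

/-- An element of prime order prime to the kernel has a centraliser covering that of its image. -/
theorem cent_covers {Q : Type v} [Group Q] (f : X →* Q) {x : X} {q : ℕ} [hq : Fact q.Prime] (hx : orderOf x = q)
    (hfx : f x ≠ 1) (hker : ¬ q ∣ Nat.card f.ker) {c : X} (hc : Commute (f x) (f c)) :
    ∃ h : X, f h = f c ∧ Commute x h := by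
  classical
  set H := (Subgroup.zpowers (f x)).comap f with hH
  have hfxo : orderOf (f x) = q := by
    refine orderOf_eq_prime ?_ hfx
    rw [← map_pow, ← hx, pow_orderOf_eq_one, map_one]
  have hxH : x ∈ H := Subgroup.mem_zpowers (f x)
  have hcH : c * x * c⁻¹ ∈ H := by
    show f (c * x * c⁻¹) ∈ Subgroup.zpowers (f x)
    rw [map_mul, map_mul, map_inv, ← hc.eq, mul_inv_cancel_right]
    exact Subgroup.mem_zpowers _
  let φ : H →* Subgroup.zpowers (f x) := f.subgroupComap _
  have hφ : Function.Surjective φ := fun y => by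
    obtain ⟨i, hi⟩ := Subgroup.mem_zpowers_iff.mp y.2
    exact ⟨⟨x ^ i, zpow_mem hxH i⟩, Subtype.ext (by show f (x ^ i) = (y : Q); rw [map_zpow, hi])⟩
  have hcard : Nat.card H = q * Nat.card f.ker := by
    rw [Subgroup.card_eq_card_quotient_mul_card_subgroup φ.ker,
      Nat.card_congr (QuotientGroup.quotientKerEquivOfSurjective φ hφ).toEquiv, Nat.card_zpowers, hfxo]
    congr 1
    refine Nat.card_congr
      { toFun := fun a => ⟨((a : H) : X), congrArg Subtype.val a.2⟩
        invFun := fun a => ⟨⟨(a : X), show f (a : X) ∈ Subgroup.zpowers (f x) by rw [a.2]; exact one_mem _⟩,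
          Subtype.ext a.2⟩
        left_inv := fun a => rfl
        right_inv := fun a => rfl }
  have mk : ∀ a : H, orderOf a = q → ∃ P : Sylow q H, (P : Subgroup H) = Subgroup.zpowers a := fun a ha => by
    refine ⟨(IsPGroup.of_card (n := 1) (by rw [Nat.card_zpowers, ha, pow_one]) :
      IsPGroup q (Subgroup.zpowers a)).toSylow ?_, rfl⟩
    have h1 := (Subgroup.zpowers a).card_mul_index
    rw [Nat.card_zpowers, ha, hcard] at h1
    rw [mul_left_cancel₀ hq.out.ne_zero h1]
    exact hker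
  obtain ⟨P1, hP1⟩ := mk ⟨x, hxH⟩ (by rw [← hx, ← Subgroup.orderOf_coe])
  obtain ⟨P2, hP2⟩ := mk ⟨c * x * c⁻¹, hcH⟩ (by
    rw [← hx, ← Subgroup.orderOf_coe]
    exact orderOf_injective (MulAut.conj c).toMonoidHom (MulAut.conj c).injective x)
  obtain ⟨m, hm⟩ := MulAction.exists_smul_eq H P2 P1
  have hmem : m * ⟨c * x * c⁻¹, hcH⟩ * m⁻¹ ∈ Subgroup.zpowers (⟨x, hxH⟩ : H) := by
    rw [← hP1, ← hm, Sylow.coe_subgroup_smul]
    exact Subgroup.smul_mem_pointwise_smul _ (MulAut.conj m) _ (hP2 ▸ Subgroup.mem_zpowers _)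
  obtain ⟨i, hi⟩ := Subgroup.mem_zpowers_iff.mp hmem
  have hi' : x ^ i = (m : X) * (c * x * c⁻¹) * (m : X)⁻¹ := by
    have := congrArg Subtype.val hi
    simpa using this
  have hmz : Commute (f (m : X)) (f x) := by
    obtain ⟨j, hj⟩ := Subgroup.mem_zpowers_iff.mp m.2
    rw [← hj]
    exact (Commute.refl _).zpow_left j
  have hfi : f x ^ i = f x := by
    rw [← map_zpow, hi', map_mul, map_mul, map_mul, map_mul, map_inv, map_inv, ← hc.eq, mul_inv_cancel_right,
      hmz.eq, mul_inv_cancel_right]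
  have hxi : x ^ i = x := by
    have e : ∀ {Y : Type u} [Group Y] (y : Y), y ^ i = y ↔ y ^ (i - 1) = 1 := fun y => by
      rw [zpow_sub_one, mul_inv_eq_one]
    have e' : f x ^ (i - 1) = 1 := by rw [zpow_sub_one, hfi, mul_inv_cancel]
    rw [e, ← orderOf_dvd_iff_zpow_eq_one, hx]
    rw [← hfxo]
    exact orderOf_dvd_iff_zpow_eq_one.mpr e'
  obtain ⟨j, hj⟩ := Subgroup.mem_zpowers_iff.mp m.2
  refine ⟨x ^ (-j) * ((m : X) * c), ?_, ?_⟩
  · rw [map_mul, map_mul, map_zpow, ← hj, ← mul_assoc, ← zpow_add, neg_add_cancel, zpow_zero, one_mul]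
  · rw [hxi] at hi'
    refine (Commute.self_zpow x (-j)).mul_right ?_
    show x * ((m : X) * c) = (m : X) * c * x
    conv_lhs => rw [hi']
    group

omit [Finite X] in
/-- A point fixed by a semiregular complement. -/
theorem trivial_of_free {V : Type*} [AddCommGroup V] [DistribMulAction X V] [Finite X] (Q : Subgroup X)
    {t : X} {k : ℕ} (hk : 0 < k) (ht : t ^ k = 1) (htQ : t ∈ Subgroup.normalizer (Q : Set X))
    (hfree : ∀ j : ℕ, 0 < j → j < k → ∀ q ∈ Q, Commute (t ^ j) q → q = 1)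
    (hcop : ∀ v : V, Nat.card Q • v = 0 → v = 0) (hfix : ∀ v : V, t • v = v → v = 0) :
    ∀ q ∈ Q, ∀ v : V, q • v = v := by
  classical
  haveI := Fintype.ofFinite Q
  let e : V → V := fun v => ∑ q : Q, (q : X) • v
  have he_inv : ∀ (a : Q) (v : V), (a : X) • e v = e v := fun a v => by
    show (a : X) • ∑ q : Q, (q : X) • v = _
    rw [Finset.smul_sum]
    exact Fintype.sum_equiv (Equiv.mulLeft a) _ _ (fun q => by simp [mul_smul])
  have hconj : ∀ (i : ℕ) (q : Q), t ^ i * (q : X) * (t ^ i)⁻¹ ∈ Q := fun i q =>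
    (Subgroup.mem_normalizer_iff.mp (Subgroup.pow_mem _ htQ i) q).mp q.2
  have he_t : ∀ (i : ℕ) (v : V), e (t ^ i • v) = t ^ i • e v := fun i v => by
    show _ = t ^ i • ∑ q : Q, (q : X) • v
    rw [Finset.smul_sum]
    let φ : Q → Q := fun q => ⟨t ^ i * (q : X) * (t ^ i)⁻¹, hconj i q⟩
    have hinj : Function.Injective φ := fun a b h => by simpa [φ] using congrArg Subtype.val h
    refine (Fintype.sum_bijective φ ⟨hinj, Finite.injective_iff_surjective.mp hinj⟩ _ _ (fun q => ?_)).symm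
    show t ^ i • (q : X) • v = (t ^ i * (q : X) * (t ^ i)⁻¹) • t ^ i • v
    rw [← mul_smul, ← mul_smul, inv_mul_cancel_right]
  have hcyc : ∀ (a : X) (v : V), (∀ w : V, a • w = w → w = 0) → a ^ k = 1 →
      ∑ i ∈ Finset.range k, a ^ i • v = 0 := fun a v hfixa ha => hfixa _ <| by
    rw [Finset.smul_sum]
    obtain ⟨k', rfl⟩ := Nat.exists_eq_add_of_le' hk
    rw [Finset.sum_range_succ, Finset.sum_range_succ' (fun i => a ^ i • v)]
    congr 1
    · exact Finset.sum_congr rfl fun i _ => by rw [← mul_smul, ← pow_succ']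
    · rw [← mul_smul, ← pow_succ', ha, pow_zero]
  have hker : ∀ v : V, e v = 0 → v = 0 := by
    intro v hv
    refine hcop v ?_
    have h1 : ∀ q : Q, ∑ i ∈ Finset.range k, ((q : X) * t * (q : X)⁻¹) ^ i • v = 0 := fun q => by
      refine hcyc _ v (fun w hw => ?_) (by rw [conj_pow, ht, mul_one, mul_inv_cancel])
      have h2 := hfix ((q : X)⁻¹ • w) (by
        conv_rhs => rw [← hw]
        rw [← mul_smul, ← mul_smul]
        congr 1
        group)
      simpa using congrArg ((q : X) • ·) h2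
    have h3 : ∑ i ∈ Finset.range k, ∑ q : Q, ((q : X) * t * (q : X)⁻¹) ^ i • v = 0 := by
      rw [Finset.sum_comm]; exact Finset.sum_eq_zero fun q _ => h1 q
    rw [Finset.sum_eq_single 0] at h3
    · simpa using h3
    · intro i hi hi0
      let φ : Q → Q := fun q => ⟨(q : X) * (t ^ i * ((q : X)⁻¹) * (t ^ i)⁻¹),
        Q.mul_mem q.2 (hconj i ⟨_, Q.inv_mem q.2⟩)⟩
      have hinj : Function.Injective φ := by
        intro a b h
        have h' : (a : X) * (t ^ i * (a : X)⁻¹ * (t ^ i)⁻¹) = (b : X) * (t ^ i * (b : X)⁻¹ * (t ^ i)⁻¹) :=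
          congrArg Subtype.val h
        have h4 : Commute (t ^ i) ((b : X)⁻¹ * (a : X)) := by
          show t ^ i * ((b : X)⁻¹ * a) = (b : X)⁻¹ * a * t ^ i
          have h5 : (b : X)⁻¹ * a * t ^ i = t ^ i * (b : X)⁻¹ * a := by
            have := congrArg (fun z => (b : X)⁻¹ * z * (t ^ i * a)) h'
            simpa [mul_assoc] using this
          rw [h5, mul_assoc]
        exact Subtype.ext (inv_mul_eq_one.mp
          (hfree i (Nat.pos_of_ne_zero hi0) (Finset.mem_range.mp hi) _ (Q.mul_mem (Q.inv_mem b.2) a.2) h4)).symm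
      calc ∑ q : Q, ((q : X) * t * (q : X)⁻¹) ^ i • v = ∑ q : Q, (φ q : X) • (t ^ i • v) :=
            Finset.sum_congr rfl fun q _ => by
              rw [conj_pow, ← mul_smul]
              congr 1
              show _ = (q : X) * (t ^ i * (q : X)⁻¹ * (t ^ i)⁻¹) * t ^ i
              simp only [mul_assoc, inv_mul_cancel, mul_one]
        _ = e (t ^ i • v) := Fintype.sum_bijective φ ⟨hinj, Finite.injective_iff_surjective.mp hinj⟩ _ _ fun q => rfl
        _ = 0 := by rw [he_t, hv, smul_zero]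
    · intro h; exact absurd (Finset.mem_range.mpr hk) h
  intro q hq v
  have hn : ∀ (a : X) (w : V), a • (Nat.card Q • w) = Nat.card Q • (a • w) := fun a w =>
    map_nsmul (DistribSMul.toAddMonoidHom V a) _ w
  have h7 : Nat.card Q • v = e v := by
    refine sub_eq_zero.mp (hker _ ?_)
    show ∑ a : Q, (a : X) • (Nat.card Q • v - e v) = 0
    rw [Finset.sum_congr rfl fun (a : Q) _ =>
      show (a : X) • (Nat.card Q • v - e v) = Nat.card Q • ((a : X) • v) - e v by rw [smul_sub, hn, he_inv],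
      Finset.sum_sub_distrib, ← Finset.smul_sum, Finset.sum_const, Finset.card_univ, Nat.card_eq_fintype_card]
    exact sub_self _
  refine sub_eq_zero.mp (hcop _ ?_)
  rw [nsmul_sub, ← hn, h7, he_inv ⟨q, hq⟩, sub_self]

/-- A semiregular group acting non-trivially on a layer makes its complement fix a point. -/
theorem fixed_core (W : Subgroup X) [W.Normal] (hab : ∀ a ∈ W, ∀ b ∈ W, a * b = b * a) {l : ℕ} (hl : l.Prime)
    (hexp : ∀ a ∈ W, a ^ l = 1) (Q : Subgroup X) {t : X} {k : ℕ} (hk : 0 < k) (ht : t ^ k = 1)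
    (htQ : t ∈ Subgroup.normalizer (Q : Set X))
    (hfree : ∀ j : ℕ, 0 < j → j < k → ∀ q ∈ Q, Commute (t ^ j) q → q = 1) (hlQ : ¬ l ∣ Nat.card Q)
    (hQ : ¬ Q ≤ Subgroup.centralizer (W : Set X)) : ∃ w ∈ W, w ≠ 1 ∧ Commute t w := by
  letI : CommGroup W := { (inferInstance : Group W) with mul_comm := fun x y => Subtype.ext (hab x x.2 y y.2) }
  letI : MulDistribMulAction X W := MulDistribMulAction.compHom W (MulAut.conjNormal : X →* MulAut W)
  letI : DistribMulAction X (Additive W) :=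
    { smul := fun g x => Additive.ofMul (g • Additive.toMul x)
      one_smul := fun x => congrArg Additive.ofMul (one_smul X (Additive.toMul x))
      mul_smul := fun g g' x => congrArg Additive.ofMul (mul_smul g g' (Additive.toMul x))
      smul_zero := fun g => congrArg Additive.ofMul (smul_one g)
      smul_add := fun g x y => congrArg Additive.ofMul (smul_mul' g (Additive.toMul x) (Additive.toMul y)) }
  have hact : ∀ (g : X) (a : Additive W), ((Additive.toMul (g • a) : W) : X) = g * (Additive.toMul a : W) * g⁻¹ :=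
    fun g a => MulAut.conjNormal_apply g _
  by_contra hcon
  push Not at hcon
  refine hQ fun q hq => Subgroup.mem_centralizer_iff.mpr fun w hw => ?_
  have hcop : ∀ v : Additive W, Nat.card Q • v = 0 → v = 0 := fun v hv => by
    refine AddMonoid.addOrderOf_eq_one_iff.mp (Nat.eq_one_of_dvd_coprimes (hl.coprime_iff_not_dvd.mpr hlQ)
      (addOrderOf_dvd_of_nsmul_eq_zero ?_) (addOrderOf_dvd_of_nsmul_eq_zero hv))
    apply Additive.toMul.injective
    rw [toMul_nsmul, toMul_zero]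
    exact Subtype.ext (by rw [Subgroup.coe_pow]; exact hexp _ (Additive.toMul v).2)
  have hfix : ∀ v : Additive W, t • v = v → v = 0 := fun v hv => by
    apply Additive.toMul.injective
    rw [toMul_zero]
    refine Subtype.ext ?_
    by_contra hne
    refine hcon _ (Additive.toMul v).2 hne ?_
    have h1 := hact t v
    rw [hv] at h1
    exact mul_inv_eq_iff_eq_mul.mp h1.symm
  have h1 := trivial_of_free Q hk ht htQ hfree hcop hfix q hq (Additive.ofMul (⟨w, hw⟩ : W))
  have h2 := hact q (Additive.ofMul (⟨w, hw⟩ : W))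
  rw [h1, toMul_ofMul] at h2
  exact (mul_inv_eq_iff_eq_mul.mp h2.symm).symm

/-- A `p`-subgroup and an element of the given order normalising it lift. -/
theorem exists_lift (h : Orders X) (f : X →* S) (hf : Function.Surjective f) {p : ℕ} [Fact p.Prime] (Qb : Subgroup S)
    (hQb : IsPGroup p Qb) {y : S} (hy : y ∈ Subgroup.normalizer (Qb : Set S)) :
    ∃ (Q : Subgroup X) (x : X), IsPGroup p Q ∧ (∀ b ∈ Qb, ∃ c ∈ Q, f c = b) ∧ (∀ c ∈ Q, f c ∈ Qb) ∧
      x ∈ Subgroup.normalizer (Q : Set X) ∧ f x = y ∧ orderOf x = orderOf y := by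
  set H := Qb.comap f with hH
  obtain ⟨P⟩ : Nonempty (Sylow p H) := inferInstance
  set Q := (P : Subgroup H).map H.subtype with hQ
  have hQH : Q ≤ H := Subgroup.map_subtype_le _
  have hQf : ∀ b ∈ Qb, ∃ c ∈ Q, f c = b := by
    let g : H →* Qb := f.subgroupComap Qb
    have hg : Function.Surjective g := fun b => by
      obtain ⟨c, hc⟩ := hf b
      exact ⟨⟨c, show f c ∈ Qb by rw [hc]; exact b.2⟩, Subtype.ext hc⟩
    haveI : Finite Qb := Finite.of_surjective g hg
    have htop : ((P.mapSurjective hg : Sylow p Qb) : Subgroup Qb) = ⊤ :=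
      ((P.mapSurjective hg).3 (Q := ⊤) (hQb.of_equiv Subgroup.topEquiv.symm) le_top).symm
    intro b hb
    have hm : (⟨b, hb⟩ : Qb) ∈ ((P.mapSurjective hg : Sylow p Qb) : Subgroup Qb) := htop ▸ Subgroup.mem_top _
    rw [Sylow.coe_mapSurjective] at hm
    obtain ⟨c, hc, hcb⟩ := Subgroup.mem_map.mp hm
    exact ⟨c, Subgroup.mem_map_of_mem _ hc, congrArg Subtype.val hcb⟩
  obtain ⟨x₀, hx₀⟩ := hf y
  set N := Subgroup.normalizer (H : Set X) with hN
  have hxH : x₀ ∈ N := Subgroup.mem_normalizer_iff.mpr fun b => by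
    rw [hH, Subgroup.mem_comap, Subgroup.mem_comap, map_mul, map_mul, map_inv, hx₀]
    exact Subgroup.mem_normalizer_iff.mp hy (f b)
  haveI : (H.subgroupOf N).Normal := Subgroup.normal_in_normalizer
  let e : ↥(H.subgroupOf N) ≃* H := Subgroup.subgroupOfEquivOfLe Subgroup.le_normalizer
  let P' : Sylow p ↥(H.subgroupOf N) := P.comapOfInjective e.toMonoidHom e.injective (by
    rw [MonoidHom.range_eq_top.mpr e.surjective]; exact le_top)
  have hmem : (⟨x₀, hxH⟩ : N) ∈ Subgroup.normalizer (((P' : Subgroup ↥(H.subgroupOf N)).map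
      (H.subgroupOf N).subtype : Subgroup N) : Set N) ⊔ H.subgroupOf N :=
    (Sylow.normalizer_sup_eq_top P').symm ▸ Subgroup.mem_top _
  obtain ⟨n, hn, d, hd, hnd⟩ := Subgroup.mem_sup_of_normal_right.mp hmem
  have hmap : ∀ b : X, b ∈ Q ↔ ∃ hb : b ∈ N, (⟨b, hb⟩ : N) ∈ (P' : Subgroup ↥(H.subgroupOf N)).map
      (H.subgroupOf N).subtype := by
    intro b
    constructor
    · rintro ⟨c, hc, rfl⟩
      refine ⟨Subgroup.le_normalizer c.2, e.symm c, ?_, Subtype.ext rfl⟩
      show e (e.symm c) ∈ P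
      rwa [MulEquiv.apply_symm_apply]
    · rintro ⟨hb, c, hc, hcb⟩
      exact ⟨e c, hc, congrArg Subtype.val hcb⟩
  have hnQ : (n : X) ∈ Subgroup.normalizer (Q : Set X) := Subgroup.mem_normalizer_fintype fun b hb => by
    obtain ⟨hbN, hb'⟩ := (hmap b).mp hb
    exact (hmap _).mpr ⟨mul_mem (mul_mem n.2 hbN) (inv_mem n.2), (Subgroup.mem_normalizer_iff.mp hn _).mp hb'⟩
  obtain ⟨c, hc, hfc⟩ := hQf (f (d : X)) (Subgroup.mem_subgroupOf.mp hd)
  have hfx : f ((n : X) * c) = y := by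
    rw [map_mul, hfc, ← map_mul, ← hx₀]
    exact congrArg f (congrArg Subtype.val hnd)
  obtain ⟨i, hi, ho⟩ := exists_pow_lift h f ((n : X) * c)
  exact ⟨Q, ((n : X) * c) ^ i, P.2.map _, hQf, fun c hc => hQH hc,
    Subgroup.pow_mem _ (mul_mem hnQ (Subgroup.le_normalizer hc)) i, hi.trans hfx, by rw [ho, hfx]⟩

/-- A semiregular subgroup with its complement. -/
structure Frob (S : Type v) [Group S] (p k : ℕ) (E : Subgroup S) (t : S) : Prop where
  pgroup : IsPGroup p E
  ne : ∃ e ∈ E, e ≠ 1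
  norm : t ∈ Subgroup.normalizer (E : Set S)
  order : orderOf t = k
  free : ∀ j : ℕ, 0 < j → j < k → ∀ e ∈ E, Commute (t ^ j) e → e = 1

/-- A Frobenius group lifts where the prime does not divide the kernel. -/
theorem exists_lift_prime (h : Orders X) (f : X →* S) (hf : Function.Surjective f) {p k : ℕ} [hp : Fact p.Prime]
    {Eb : Subgroup S} {tb : S} (hF : Frob S p k Eb tb) (hker : ¬ p ∣ Nat.card f.ker) :
    ∃ (E : Subgroup X) (t : X), f t = tb ∧ Frob X p k E t ∧ ∃ e ∈ E, f e ≠ 1 := by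
  obtain ⟨Q, x, hQ, hQf, hQe, hxQ, hfx, hxo⟩ := exists_lift h f hf Eb hF.pgroup hF.norm
  obtain ⟨eb, heb, heb1⟩ := hF.ne
  obtain ⟨c, hc, hfc⟩ := hQf eb heb
  have hc1 : f c ≠ 1 := by rwa [hfc]
  refine ⟨Q, x, hfx, ⟨hQ, ⟨c, hc, fun e => hc1 (by rw [e, map_one])⟩, hxQ, hxo.trans hF.order,
    fun j hj hjk q hq hcom => ?_⟩, c, hc, hc1⟩
  have h1 : f q = 1 := hF.free j hj hjk _ (hQe q hq) (by rw [← hfx, ← map_pow]; exact hcom.map f)
  by_contra hne
  have ho : orderOf q = p := orderOf_eq_prime (h.pgroup hp.out hQ hq) hne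
  refine hker (ho ▸ ?_)
  exact (Subgroup.orderOf_mk (H := f.ker) q h1) ▸ orderOf_dvd_natCard (⟨q, h1⟩ : f.ker)

/-- The Frobenius group `E8 : 7` lifts as a semiregular group. -/
theorem exists_lift_two (h : Orders X) (f : X →* S) (hf : Function.Surjective f) {Eb : Subgroup S} {tb : S}
    (hF : Frob S 2 7 Eb tb) :
    ∃ (E : Subgroup X) (t : X), f t = tb ∧ Frob X 2 7 E t ∧ (∀ b ∈ Eb, ∃ c ∈ E, f c = b) ∧
      ∀ c ∈ E, f c ∈ Eb := by
  haveI : Fact (Nat.Prime 2) := ⟨Nat.prime_two⟩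
  obtain ⟨Q, x, hQ, hQf, hQe, hxQ, hfx, hxo⟩ := exists_lift h f hf Eb hF.pgroup hF.norm
  have hx7 : x ^ 7 = 1 := by
    have := pow_orderOf_eq_one x
    rwa [hxo.trans hF.order] at this
  have hconj : ∀ q ∈ Q, x * q * x⁻¹ ∈ Q := fun q hq => (Subgroup.mem_normalizer_iff.mp hxQ q).mp hq
  let E : Subgroup X :=
    { carrier := {u | ∃ q ∈ Q, u = q * (x * q⁻¹ * x⁻¹)}
      one_mem' := ⟨1, one_mem _, by simp⟩
      mul_mem' := by
        rintro _ _ ⟨q, hq, rfl⟩ ⟨r, hr, rfl⟩
        refine ⟨q * r, mul_mem hq hr, ?_⟩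
        have e2 := (h.commute_two hQ (hconj _ (inv_mem hr)) (hconj _ (inv_mem hq))).eq
        calc q * (x * q⁻¹ * x⁻¹) * (r * (x * r⁻¹ * x⁻¹))
            = q * ((x * q⁻¹ * x⁻¹) * r) * (x * r⁻¹ * x⁻¹) := by group
          _ = q * r * ((x * q⁻¹ * x⁻¹) * (x * r⁻¹ * x⁻¹)) := by
            rw [(h.commute_two hQ (hconj _ (inv_mem hq)) hr).eq]; group
          _ = q * r * ((x * r⁻¹ * x⁻¹) * (x * q⁻¹ * x⁻¹)) := by rw [e2]
          _ = q * r * (x * (q * r)⁻¹ * x⁻¹) := by group
      inv_mem' := by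
        rintro _ ⟨q, hq, rfl⟩
        refine ⟨q⁻¹, inv_mem hq, ?_⟩
        rw [(h.commute_two hQ (inv_mem hq) (hconj _ (inv_mem (inv_mem hq)))).eq]
        group }
  have hEQ : E ≤ Q := by rintro _ ⟨q, hq, rfl⟩; exact mul_mem hq (hconj _ (inv_mem hq))
  have hEf : ∀ c ∈ E, f c ∈ Eb := fun c hc => hQe c (hEQ hc)
  haveI : Finite S := Finite.of_surjective f hf
  have hsurj : ∀ b ∈ Eb, ∃ c ∈ E, f c = b := by
    have hcomm : ∀ a ∈ Eb, ∀ b ∈ Eb, Commute a b := fun a ha b hb =>
      (h.of_surjective f hf).commute_two hF.pgroup ha hb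
    have hcb : ∀ a ∈ Eb, tb * a * tb⁻¹ ∈ Eb := fun a ha => (Subgroup.mem_normalizer_iff.mp hF.norm a).mp ha
    let φ : Eb → Eb := fun b => ⟨b * (tb * (b : S)⁻¹ * tb⁻¹), mul_mem b.2 (hcb _ (inv_mem b.2))⟩
    have hinj : Function.Injective φ := fun a b hab => by
      have h' : (a : S) * (tb * (a : S)⁻¹ * tb⁻¹) = b * (tb * (b : S)⁻¹ * tb⁻¹) := congrArg Subtype.val hab
      refine Subtype.ext (inv_mul_eq_one.mp (hF.free 1 one_pos (by norm_num) _ (mul_mem (inv_mem b.2) a.2) ?_)).symm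
      rw [pow_one]
      show tb * ((b : S)⁻¹ * a) = (b : S)⁻¹ * a * tb
      have h5 : (b : S)⁻¹ * a * tb = tb * (b : S)⁻¹ * a := by
        have := congrArg (fun z => (b : S)⁻¹ * z * (tb * a)) h'
        simpa [mul_assoc] using this
      rw [h5, mul_assoc]
    intro b hb
    obtain ⟨a, ha⟩ := (Finite.injective_iff_surjective.mp hinj) ⟨b, hb⟩
    obtain ⟨c, hc, hfc⟩ := hQf a a.2
    refine ⟨_, ⟨c, hc, rfl⟩, ?_⟩
    rw [map_mul, map_mul, map_mul, map_inv, map_inv, hfc, hfx]
    exact congrArg Subtype.val ha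
  obtain ⟨eb, heb, heb1⟩ := hF.ne
  obtain ⟨c, hc, hfc⟩ := hsurj eb heb
  refine ⟨E, x, hfx, ⟨hQ.to_le hEQ, ⟨c, hc, fun e => heb1 (by rw [← hfc, e, map_one])⟩, ?_, hxo.trans hF.order,
    ?_⟩, hsurj, hEf⟩
  · refine Subgroup.mem_normalizer_fintype ?_
    rintro _ ⟨q, hq, rfl⟩
    exact ⟨x * q * x⁻¹, hconj q hq, by group⟩
  · rintro j hj hjk u ⟨q, hq, rfl⟩ hcom
    set u := q * (x * q⁻¹ * x⁻¹) with hu
    have hx1 : Commute x u := by
      obtain ⟨i, hi⟩ := exists_pow_eq_self_of_coprime (x := x) (n := j) (by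
        rw [hxo.trans hF.order]
        exact ((show Nat.Prime 7 by norm_num).coprime_iff_not_dvd.mpr fun hd => by
          have := Nat.le_of_dvd hj hd; omega).symm)
      have := hcom.pow_left i
      rwa [hi] at this
    have h7 : u ^ 7 = 1 := by
      have e1 : u * x = q * x * q⁻¹ := by rw [hu]; group
      have e2 : (u * x) ^ 7 = 1 := by rw [e1, conj_pow, hx7, mul_one, mul_inv_cancel]
      rwa [hx1.symm.mul_pow, hx7, mul_one] at e2
    have h2 : u ^ 2 = 1 := h.pgroup Nat.prime_two hQ (hEQ ⟨q, hq, rfl⟩)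
    calc u = u ^ 7 * ((u ^ 2) ^ 3)⁻¹ := by group
      _ = 1 := by rw [h7, h2, one_pow, inv_one, mul_one]

/-- A lift of the complement fixes a point of a layer. -/
theorem frob_fixed (h : Orders X) (hS : Simp S) (f : X →* S) (hf : Function.Surjective f) (W : Subgroup X) [W.Normal]
    (hab : ∀ a ∈ W, ∀ b ∈ W, a * b = b * a) (hne : W ≠ ⊥) {l : ℕ} (hl : l.Prime) (hexp : ∀ a ∈ W, a ^ l = 1)
    {p k : ℕ} [hp : Fact p.Prime] (hlp : l ≠ p) (hk : 0 < k) {E : Subgroup X} {t : X} (hF : Frob X p k E t)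
    (hft : orderOf (f t) = k) (hEf : ∃ e ∈ E, f e ≠ 1) :
    ∃ g : X, f g = f t ∧ orderOf g = k ∧ ∃ w ∈ W, orderOf w = l ∧ Commute g w := by
  haveI := Fact.mk hl
  rcases covers_or_le hS f hf (Subgroup.centralizer (W : Set X)) with hc | hc
  · obtain ⟨c, hc, hfc⟩ := hc (f t)
    obtain ⟨i, hi, ho⟩ := exists_pow_lift h f c
    obtain ⟨w, hw, hw1⟩ := (Subgroup.bot_or_exists_ne_one W).resolve_left hne
    exact ⟨c ^ i, hi.trans hfc, by rw [ho, hfc, hft], w, hw, orderOf_eq_prime (hexp w hw) hw1,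
      (Subgroup.mem_centralizer_iff.mp (pow_mem hc i) w hw).symm⟩
  · obtain ⟨e, he, hfe⟩ := hEf
    obtain ⟨w, hw, hw1, hcom⟩ := fixed_core W hab hl hexp E hk
      (orderOf_dvd_iff_pow_eq_one.mp (hF.order ▸ dvd_rfl)) hF.norm hF.free
      (fun hd => by
        obtain ⟨n, hn⟩ := IsPGroup.iff_card.mp hF.pgroup
        exact hlp ((Nat.prime_dvd_prime_iff_eq hl hp.out).mp (hl.dvd_of_dvd_pow (hn ▸ hd))))
      (fun hle => hfe (hc (hle he)))
    exact ⟨t, rfl, hF.order, w, hw, orderOf_eq_prime (hexp w hw) hw1, hcom⟩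

/-- Where an odd prime divides the kernel an involution outside commutes with an element of that order inside. -/
theorem four_fix (h : Orders X) (f : X →* S) (hf : Function.Surjective f) (h4 : 4 ∣ Nat.card S) {l : ℕ} (hl : l.Prime)
    (hl2 : l ≠ 2) (hd : l ∣ Nat.card f.ker) :
    ∃ e v : X, orderOf e = 2 ∧ f e ≠ 1 ∧ orderOf v = l ∧ f v = 1 ∧ Commute e v := by
  haveI := Fact.mk hl
  haveI : Fact (Nat.Prime 2) := ⟨Nat.prime_two⟩
  haveI : Finite S := Finite.of_surjective f hf
  obtain ⟨P⟩ : Nonempty (Sylow l f.ker) := inferInstance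
  set P1 := (P : Subgroup f.ker).map f.ker.subtype with hP1
  set N := Subgroup.normalizer (P1 : Set X) with hN
  have hcov : Covers f N := fun a => by
    obtain ⟨c, hc⟩ := hf a
    have hmem : c ∈ N ⊔ f.ker := by rw [hN, hP1, Sylow.normalizer_sup_eq_top P]; exact Subgroup.mem_top c
    obtain ⟨n, hn, k, hk, rfl⟩ := Subgroup.mem_sup_of_normal_right.mp hmem
    refine ⟨n, hn, ?_⟩
    rw [map_mul, MonoidHom.mem_ker.mp hk, mul_one] at hc
    exact hc
  set g := f.comp N.subtype with hg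
  have hgs : Function.Surjective g := hcov.surj
  haveI : (P1.subgroupOf N).Normal := Subgroup.normal_in_normalizer
  set D := P1.subgroupOf N with hD
  have hDl : IsPGroup l D := (P.2.map _).of_equiv (Subgroup.subgroupOfEquivOfLe Subgroup.le_normalizer).symm
  have hDne : D ≠ ⊥ := fun e => by
    rw [hD, Subgroup.subgroupOf_eq_bot, disjoint_iff, inf_eq_left.mpr Subgroup.le_normalizer, hP1,
      Subgroup.map_eq_bot_iff_of_injective _ f.ker.subtype_injective] at e
    exact P.ne_bot_of_dvd_card hd e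
  obtain ⟨T⟩ : Nonempty (Sylow 2 N) := inferInstance
  set Tb : Sylow 2 S := T.mapSurjective hgs with hTb
  have hTc : 4 ≤ Nat.card Tb := Nat.le_of_dvd Nat.card_pos (Tb.pow_dvd_card_of_pow_dvd_card (n := 2) h4)
  have hlift : ∀ s ∈ (Tb : Subgroup S), ∃ a ∈ (T : Subgroup N), g a = s := fun s hs => by
    rw [hTb, Sylow.coe_mapSurjective] at hs
    exact Subgroup.mem_map.mp hs
  obtain ⟨sa, hsa, hsa1⟩ := (Subgroup.bot_or_exists_ne_one (Tb : Subgroup S)).resolve_left fun e => by
    rw [show Nat.card Tb = Nat.card (Tb : Subgroup S) from rfl, e, Subgroup.card_bot] at hTc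
    omega
  have hsa2 : sa ^ 2 = 1 := (h.of_surjective f hf).pgroup Nat.prime_two Tb.2 hsa
  obtain ⟨sb, hsb, hsbz⟩ : ∃ sb ∈ (Tb : Subgroup S), sb ∉ Subgroup.zpowers sa := by
    by_contra hcon
    push Not at hcon
    have h1 := Nat.le_of_dvd Nat.card_pos (Subgroup.card_dvd_of_le (fun x hx => hcon x hx :
      (Tb : Subgroup S) ≤ Subgroup.zpowers sa))
    rw [Nat.card_zpowers, orderOf_eq_prime hsa2 hsa1] at h1
    change 4 ≤ Nat.card (Tb : Subgroup S) at hTc
    omega
  obtain ⟨a, ha, hga⟩ := hlift sa hsa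
  obtain ⟨b, hb, hgb⟩ := hlift sb hsb
  have hpow : ∀ x ∈ (T : Subgroup N), x ^ 2 = 1 := fun x hx => (h.subgroup N).pgroup Nat.prime_two T.2 hx
  have hab := (h.subgroup N).commute_two T.2 ha hb
  have hsb1 : sb ≠ 1 := fun e => hsbz (e ▸ one_mem _)
  have hsab : sa * sb ≠ 1 := fun e => hsbz (by rw [eq_inv_of_mul_eq_one_right e]; exact inv_mem (Subgroup.mem_zpowers sa))
  haveI := elemCenter_normal D l
  obtain ⟨e, he, heo, v, hv, hv1, hev⟩ := CfsgLib.SzPairGen.exists_fixed_pair (L := elemCenter D l)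
    (elemCenter_comm D l) (elemCenter_ne_bot hDl hDne) hl (fun x hx => hx.2.1) Nat.prime_two hl2
    (orderOf_eq_prime (hpow a ha) fun e => hsa1 (by rw [← hga, e, map_one]))
    (orderOf_eq_prime (hpow b hb) fun e => hsb1 (by rw [← hgb, e, map_one])) hab
    (fun hz => hsbz (by
      obtain ⟨i, hi⟩ := Subgroup.mem_zpowers_iff.mp hz
      rw [← hgb, ← hi, map_zpow, hga]
      exact zpow_mem (Subgroup.mem_zpowers sa) i))
  have hcl : e = 1 ∨ e = a ∨ e = b ∨ e = a * b := by
    have h2 : ∀ (x : N) (i : ℕ), x ^ 2 = 1 → x ^ i = 1 ∨ x ^ i = x := fun x i hx => by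
      rw [← Nat.div_add_mod i 2, pow_add, pow_mul, hx, one_pow, one_mul]
      rcases Nat.mod_two_eq_zero_or_one i with e | e <;> rw [e] <;> simp
    have key : ∀ y ∈ Subgroup.closure ({a, b} : Set N), ∃ i j : ℕ, y = a ^ i * b ^ j := by
      intro y hy
      induction hy using Subgroup.closure_induction with
      | mem x hx =>
        rcases hx with rfl | rfl
        · exact ⟨1, 0, by simp⟩
        · exact ⟨0, 1, by simp⟩
      | one => exact ⟨0, 0, by simp⟩
      | mul x y _ _ hx hy =>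
        obtain ⟨i, j, rfl⟩ := hx
        obtain ⟨i', j', rfl⟩ := hy
        refine ⟨i + i', j + j', ?_⟩
        rw [pow_add, pow_add, mul_assoc, ← mul_assoc (b ^ j), ← (hab.pow_pow i' j).eq]
        simp only [mul_assoc]
      | inv x _ hx =>
        obtain ⟨i, j, rfl⟩ := hx
        refine ⟨i, j, inv_eq_of_mul_eq_one_right ?_⟩
        have := hpow _ (mul_mem (pow_mem ha i) (pow_mem hb j))
        rwa [pow_two] at this
    obtain ⟨i, j, rfl⟩ := key e he
    rcases h2 a i (hpow a ha) with e1 | e1 <;> rcases h2 b j (hpow b hb) with e2 | e2 <;> simp [e1, e2]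
  have hfe : g e ≠ 1 := by
    rcases hcl with rfl | rfl | rfl | rfl
    · rw [orderOf_one] at heo; norm_num at heo
    · rwa [hga]
    · rwa [hgb]
    · rwa [map_mul, hga, hgb]
  refine ⟨(e : X), (v : X), by rw [Subgroup.orderOf_coe, heo], hfe, ?_, ?_, congrArg Subtype.val hev.eq⟩
  · rw [Subgroup.orderOf_coe]
    exact orderOf_eq_prime hv.2.1 hv1
  · exact Subgroup.map_subtype_le _ (Subgroup.mem_subgroupOf.mp hv.1)

end CfsgLib.J1Square
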