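import Cfsg.Agent.Lib.J1Square.Model

/-!
An extension of `J1 × J1` inside its spectrum by a solvable group is trivial.
-/

set_option autoImplicit false
set_option maxHeartbeats 1000000
set_option linter.unusedSectionVars false
set_option linter.style.haveILetI false

namespace CfsgLib.J1Square

universe u v

variable {X : Type u} [Group X] [Finite X]

/-- A semiregular group of the quotient moves an element of prime order into a centraliser in the layer. -/
theorem layer_step (h : Orders X) {S : Type v} [Group S] (hS : Simp S) (f : X →* S) (hf : Function.Surjective f)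
    (W : Subgroup X) [W.Normal] (hab : ∀ a ∈ W, ∀ b ∈ W, a * b = b * a) (hne : W ≠ ⊥) {l : ℕ} (hl : l.Prime)
    (hexp : ∀ a ∈ W, a ^ l = 1) (hker : f.ker ≤ W) {p k : ℕ} [hp : Fact p.Prime] (hlp : l ≠ p) (hk : 0 < k)
    {E : Subgroup S} {t : S} (hF : Frob S p k E t) :
    ∃ g : X, f g = t ∧ orderOf g = k ∧ ∃ w ∈ W, orderOf w = l ∧ Commute g w := by
  haveI := Fact.mk hl
  have hlk : IsPGroup l f.ker := fun a => ⟨1, Subtype.ext (by
    rw [Subgroup.coe_pow, pow_one]; exact hexp _ (hker a.2))⟩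
  obtain ⟨E', t', ht', hF', hE'⟩ := exists_lift_prime h f hf hF (fun hd => by
    obtain ⟨n, hn⟩ := IsPGroup.iff_card.mp hlk
    exact hlp ((Nat.prime_dvd_prime_iff_eq hp.out hl).mp (hp.out.dvd_of_dvd_pow (hn ▸ hd))).symm)
  obtain ⟨g, hg, ho, hw⟩ := frob_fixed h hS f hf W hab hne hl hexp hlp hk hF' (by rw [ht']; exact hF.order) hE'
  exact ⟨g, hg.trans ht', ho, hw⟩

set_option quotPrecheck false in
local notation "J" => ↥Cfsg.Spor.J1

/-- The choice of two Frobenius groups against an elementary layer of the given prime. -/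
theorem frob_choice {l : ℕ} (hl : l ∈ Six) (hl2 : l ≠ 2) :
    ∃ (p₁ k₁ p₂ k₂ : ℕ), p₁.Prime ∧ p₂.Prime ∧ k₂.Prime ∧ 0 < k₁ ∧ l ≠ p₁ ∧ l ≠ p₂ ∧ l ≠ k₂ ∧
      (∃ (E : Subgroup J) (t : J), Frob J p₁ k₁ E t) ∧ (∃ (E : Subgroup J) (t : J), Frob J p₂ k₂ E t) ∧
      ((cls l ≠ cls 2 ∧ k₁ = 7 ∧ k₂ = 2 ∧ l ≠ 7) ∨
        ((l = 3 ∨ l = 5 ∨ l = 7) ∧ 2 ∣ k₁ * k₂ * l ∧ 3 ∣ k₁ * k₂ * l ∧ 5 ∣ k₁ * k₂ * l ∧ 7 ∣ k₁ * k₂ * l ∧
          Nat.Coprime k₁ k₂ ∧ Nat.Coprime (k₁ * k₂) l)) := by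
  haveI := finite_J
  have hJ : IsJ J := ⟨MulEquiv.refl _⟩
  haveI : Fact (Nat.Prime 19) := ⟨by norm_num⟩
  obtain ⟨E8, t7, h8, -⟩ := hJ.frob_eight
  obtain ⟨E11, t10, h11⟩ := hJ.frob_cyclic (p := 11) (Or.inl rfl)
  obtain ⟨E19, t6, h19⟩ := hJ.frob_cyclic (p := 19) (Or.inr rfl)
  rw [if_pos rfl] at h11
  rw [if_neg (by norm_num)] at h19
  rcases mem_six hl with rfl | rfl | rfl | rfl | rfl | rfl
  · exact absurd rfl hl2
  · exact ⟨11, 10, 2, 7, by norm_num, by norm_num, by norm_num, by norm_num, by norm_num, by norm_num, by norm_num,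
      ⟨_, _, h11⟩, ⟨_, _, h8⟩, Or.inr (by decide)⟩
  · exact ⟨19, 6, 2, 7, by norm_num, by norm_num, by norm_num, by norm_num, by norm_num, by norm_num, by norm_num,
      ⟨_, _, h19⟩, ⟨_, _, h8⟩, Or.inr (by decide)⟩
  · exact ⟨19, 6, 11, 5, by norm_num, by norm_num, by norm_num, by norm_num, by norm_num, by norm_num, by norm_num,
      ⟨_, _, h19⟩, ⟨_, _, h11.pow (a := 2) (b := 5) rfl (by norm_num)⟩, Or.inr (by decide)⟩
  · exact ⟨2, 7, 19, 2, by norm_num, by norm_num, by norm_num, by norm_num, by norm_num, by norm_num, by norm_num,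
      ⟨_, _, h8⟩, ⟨_, _, h19.pow (a := 3) (b := 2) rfl (by norm_num)⟩, Or.inl (by decide)⟩
  · exact ⟨2, 7, 11, 2, by norm_num, by norm_num, by norm_num, by norm_num, by norm_num, by norm_num, by norm_num,
      ⟨_, _, h8⟩, ⟨_, _, h11.pow (a := 5) (b := 2) rfl (by norm_num)⟩, Or.inl (by decide)⟩

/-- No elementary layer below `J1 × J1`. -/
theorem no_layer (h : Orders X) (f : X →* J × J) (hf : Function.Surjective f) (M : Subgroup X) [M.Normal]
    (hMf : f.ker = M) (hM : M ≠ ⊥) (hab : ∀ a ∈ M, ∀ b ∈ M, a * b = b * a) {l : ℕ} (hl : l.Prime)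
    (hexp : ∀ a ∈ M, a ^ l = 1) : False := by
  haveI := finite_J
  haveI := Fact.mk hl
  obtain ⟨v, hv, hv1⟩ := (Subgroup.bot_or_exists_ne_one M).resolve_left hM
  have hvo : orderOf v = l := orderOf_eq_prime (hexp v hv) hv1
  have hl6 : l ∈ Six := h.primes v l hl (hvo ▸ dvd_rfl)
  set X1 := ((MonoidHom.snd J J).comp f).ker with hX1
  set X2 := ((MonoidHom.fst J J).comp f).ker with hX2
  set f1 : X1 →* J := (MonoidHom.fst J J).comp (f.comp X1.subtype) with hf1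
  set f2 : X2 →* J := (MonoidHom.snd J J).comp (f.comp X2.subtype) with hf2
  have s1 : Function.Surjective f1 := fun s => by
    obtain ⟨a, ha⟩ := hf (s, 1)
    exact ⟨⟨a, show (f a).2 = 1 by rw [ha]⟩, show (f a).1 = s by rw [ha]⟩
  have s2 : Function.Surjective f2 := fun s => by
    obtain ⟨a, ha⟩ := hf (1, s)
    exact ⟨⟨a, show (f a).1 = 1 by rw [ha]⟩, show (f a).2 = s by rw [ha]⟩
  have hMX : ∀ {a : X}, a ∈ M → f a = 1 := fun {a} ha => MonoidHom.mem_ker.mp (hMf.symm ▸ ha)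
  have hv1' : v ∈ X1 := show (f v).2 = 1 by rw [hMX hv]; rfl
  have hv2' : v ∈ X2 := show (f v).1 = 1 by rw [hMX hv]; rfl
  by_cases hl2 : l = 2
  · subst hl2
    haveI : Fact (Nat.Prime 7) := ⟨by norm_num⟩
    obtain ⟨a, hao⟩ := exists_prime_orderOf_dvd_card' (G := J) 7 (by rw [J1.card_J1]; norm_num)
    obtain ⟨b, hbo⟩ := exists_prime_orderOf_dvd_card' (G := J) 11 (by rw [J1.card_J1]; norm_num)
    have hT : ∀ (Y : Subgroup X) (g : Y →* J), M ≤ Y → Function.Surjective g →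
        ∀ s : J, ∃ y : Y, g y = s ∧ (y : X) ∈ Subgroup.centralizer (M : Set X) := fun Y g hMY hg s => by
      haveI : (M.subgroupOf Y).Normal := (inferInstance : M.Normal).subgroupOf Y
      obtain ⟨y, ⟨hy, -⟩, hys⟩ := cover_two (h.subgroup Y) simp_J (by rw [J1.card_J1]; norm_num) g (M.subgroupOf Y)
        (fun m => ⟨1, Subtype.ext (Subtype.ext (by simpa using hexp _ m.2))⟩)
        (fun s => by
          obtain ⟨y, hy⟩ := hg s
          exact ⟨y, by rw [Subgroup.normalizer_eq_top]; exact Subgroup.mem_top y, hy⟩) s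
      refine ⟨y, hys, Subgroup.mem_centralizer_iff.mpr fun m hm => ?_⟩
      exact congrArg Subtype.val (Subgroup.mem_centralizer_iff.mp hy ⟨m, hMY hm⟩ hm)
    obtain ⟨⟨x, hxX⟩, hfx, hxC⟩ := hT X1 f1 (fun m hm => show (f m).2 = 1 by rw [hMX hm]; rfl) s1 a
    obtain ⟨⟨y, hyX⟩, hfy, hyC⟩ := hT X2 f2 (fun m hm => show (f m).1 = 1 by rw [hMX hm]; rfl) s2 b
    have hfxy : f (x * y) = (a, b) := by
      rw [map_mul, show f x = (a, 1) from Prod.ext hfx hxX, show f y = (1, b) from Prod.ext hyX hfy]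
      simp
    have hd : orderOf ((a, b) : J × J) ∣ orderOf (x * y) := hfxy ▸ orderOf_map_dvd f (x * y)
    rw [Prod.orderOf, hao, hbo] at hd
    have hcv : Commute (x * y) v := (Subgroup.mem_centralizer_iff.mp (mul_mem hxC hyC) v hv).symm
    exact h.triple (r := 7) (s := 11) (t := 2) (by norm_num) (by norm_num) Nat.prime_two
      ((Nat.dvd_lcm_left 7 11).trans hd) ((Nat.dvd_lcm_right 7 11).trans hd) (hvo ▸ dvd_rfl) (Commute.refl _) hcv hcv
      (by decide) (by decide) (by decide)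
  obtain ⟨p₁, k₁, p₂, k₂, hp₁, hp₂, hk₂, hk₁, hlp₁, hlp₂, hlk₂, ⟨E₁, t₁, hF₁⟩, ⟨E₂, t₂, hF₂⟩, hch⟩ :=
    frob_choice hl6 hl2
  haveI := Fact.mk hp₁
  haveI := Fact.mk hp₂
  haveI := Fact.mk hk₂
  -- the second factor
  haveI : (M.subgroupOf X2).Normal := (inferInstance : M.Normal).subgroupOf X2
  obtain ⟨⟨g₂, hg₂X⟩, hfg₂, hgo₂, ⟨w₂, hw₂X⟩, hw₂, hwo₂, hc₂⟩ := layer_step (h.subgroup X2) simp_J f2 s2
    (M.subgroupOf X2) (fun a ha b hb => Subtype.ext (hab a ha b hb))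
    (fun e => hv1 (by
      have h1 : (⟨v, hv2'⟩ : X2) ∈ M.subgroupOf X2 := hv
      rw [e, Subgroup.mem_bot] at h1
      exact congrArg Subtype.val h1))
    hl (fun a ha => Subtype.ext (hexp a ha))
    (fun a ha => hMf ▸ (MonoidHom.mem_ker.mpr (Prod.ext (x := f (a : X)) (y := (1 : J × J)) a.2 ha) : (a : X) ∈ f.ker)) hlp₂ hk₂.pos hF₂
  rw [Subgroup.orderOf_mk] at hgo₂ hwo₂
  have hc₂' : Commute g₂ w₂ := congrArg Subtype.val hc₂.eq
  have hfg : f g₂ = (1, t₂) := Prod.ext hg₂X hfg₂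
  have ht₂ : t₂ ≠ 1 := fun e => hk₂.ne_one (by rw [← hF₂.order, e, orderOf_one])
  have hkerM : ¬ k₂ ∣ Nat.card f.ker := fun hd => by
    rw [hMf] at hd
    obtain ⟨m, hm⟩ := exists_prime_orderOf_dvd_card' k₂ hd
    rw [← Subgroup.orderOf_coe] at hm
    exact hlk₂ ((Nat.prime_dvd_prime_iff_eq hk₂ hl).mp (hm ▸ orderOf_dvd_of_pow_eq_one (hexp _ m.2))).symm
  -- the centraliser of that element over the first factor
  set Y := X1 ⊓ Subgroup.centralizer ({g₂} : Set X) with hY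
  set fY : Y →* J := (MonoidHom.fst J J).comp (f.comp Y.subtype) with hfY
  have sY : Function.Surjective fY := fun s => by
    obtain ⟨c, hc⟩ := hf (s, 1)
    obtain ⟨a, ha, hga⟩ := cent_covers f (x := g₂) hgo₂
      (by rw [hfg]; exact fun e => ht₂ (congrArg Prod.snd e)) hkerM (c := c)
      (by rw [hfg, hc]; exact Commute.prod (Commute.one_left _) (Commute.one_right _))
    refine ⟨⟨a, ?_, Subgroup.mem_centralizer_singleton_iff.mpr hga.eq.symm⟩, show (f a).1 = s by rw [ha, hc]⟩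
    show (f a).2 = 1
    rw [ha, hc]
  have hw₂M : w₂ ∈ M := hw₂
  have hw₂Y : w₂ ∈ Y := ⟨show (f w₂).2 = 1 by rw [hMX hw₂M]; rfl,
    Subgroup.mem_centralizer_singleton_iff.mpr hc₂'.eq.symm⟩
  haveI : (M.subgroupOf Y).Normal := (inferInstance : M.Normal).subgroupOf Y
  obtain ⟨⟨g₁, hg₁Y⟩, -, hgo₁, ⟨w₁, hw₁Y⟩, hw₁, hwo₁, hc₁⟩ := layer_step (h.subgroup Y) simp_J fY sY
    (M.subgroupOf Y) (fun a ha b hb => Subtype.ext (hab a ha b hb))
    (fun e => by
      have h1 : (⟨w₂, hw₂Y⟩ : Y) ∈ M.subgroupOf Y := hw₂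
      rw [e, Subgroup.mem_bot] at h1
      rw [show w₂ = 1 from congrArg Subtype.val h1, orderOf_one] at hwo₂
      exact hl.ne_one hwo₂.symm)
    hl (fun a ha => Subtype.ext (hexp a ha))
    (fun a ha => hMf ▸ (MonoidHom.mem_ker.mpr (Prod.ext (x := f (a : X)) (y := (1 : J × J)) ha a.2.1) : (a : X) ∈ f.ker)) hlp₁ hk₁ hF₁
  rw [Subgroup.orderOf_mk] at hgo₁ hwo₁
  have c12 : Commute g₁ g₂ := Subgroup.mem_centralizer_singleton_iff.mp hg₁Y.2
  have c2w : Commute g₂ w₁ := (Subgroup.mem_centralizer_singleton_iff.mp hw₁Y.2).symm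
  have c1w : Commute g₁ w₁ := congrArg Subtype.val hc₁.eq
  rcases hch with ⟨hcl, e1, e2, h7⟩ | ⟨h357, d2, d3, d5, d7, cop, cop'⟩
  · refine h.triple (r := 7) (s := 2) (t := l) (by norm_num) Nat.prime_two hl (hgo₁.trans e1 ▸ dvd_rfl)
      (hgo₂.trans e2 ▸ dvd_rfl) (hwo₁ ▸ dvd_rfl) c12 c1w c2w (by decide) ?_ hcl.symm
    intro e
    rcases mem_six hl6 with rfl | rfl | rfl | rfl | rfl | rfl <;> simp [cls] at e h7
  · have ho : orderOf (g₁ * g₂ * w₁) = k₁ * k₂ * l := by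
      have e12 : orderOf (g₁ * g₂) = k₁ * k₂ := by
        rw [c12.orderOf_mul_eq_mul_orderOf_of_coprime (by rw [hgo₁, hgo₂]; exact cop), hgo₁, hgo₂]
      rw [(c1w.mul_left c2w).orderOf_mul_eq_mul_orderOf_of_coprime (by rw [e12, hwo₁]; exact cop'), e12, hwo₁]
    refine h.quad (x := 7) (by simp) (a := g₁ * g₂ * w₁) (b := g₁ * g₂ * w₁) (c := g₁ * g₂ * w₁) (d := g₁ * g₂ * w₁)
      ?_ ?_ ?_ ?_ (Commute.refl _) (Commute.refl _) (Commute.refl _) (Commute.refl _) (Commute.refl _) (Commute.refl _)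
      <;> rw [ho] <;> assumption

/-- An extension of `J1 × J1` by a solvable group is trivial. -/
theorem two_rad (h : Orders X) (f : X →* J × J) (hf : Function.Surjective f) (hs : Group.IsSolvable f.ker) :
    f.ker = ⊥ := by
  induction hn : Nat.card X using Nat.strong_induction_on generalizing X with
  | _ n ih =>
    by_contra hne
    obtain ⟨M, hM, hMle, hMne, hmin⟩ := CfsgLib.exists_minimal_normal hne
    haveI := hM
    haveI := hs
    have hMs : Group.IsSolvable M :=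
      Group.isSolvable_of_isSolvable_injective (f := Subgroup.inclusion hMle) (Subgroup.inclusion_injective _)
    obtain ⟨hcomm, l, hl, hexp⟩ := CfsgLib.minimal_normal_elementary hMne hMs hmin
    have hab : ∀ a ∈ M, ∀ b ∈ M, a * b = b * a := fun a ha b hb =>
      congrArg Subtype.val (hcomm.is_comm.comm ⟨a, ha⟩ ⟨b, hb⟩)
    refine no_layer h f hf M (le_antisymm (fun a ha => ?_) hMle) hMne hab hl hexp
    let f' : X ⧸ M →* J × J := QuotientGroup.lift M f hMle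
    have hsurj : Function.Surjective f' := fun p => by
      obtain ⟨a, rfl⟩ := hf p
      exact ⟨QuotientGroup.mk a, rfl⟩
    have hker : Group.IsSolvable f'.ker := by
      let φ : f.ker →* f'.ker := ((QuotientGroup.mk' M).comp f.ker.subtype).codRestrict _ fun a =>
        MonoidHom.mem_ker.mpr (show f (a : X) = 1 from a.2)
      refine Group.isSolvable_of_surjective (f := φ) fun b => ?_
      obtain ⟨a, ha⟩ := QuotientGroup.mk'_surjective M (b : X ⧸ M)
      have hb := MonoidHom.mem_ker.mp b.2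
      rw [← ha] at hb
      exact ⟨⟨a, hb⟩, Subtype.ext ha⟩
    have hlt : Nat.card (X ⧸ M) < n := by
      have e := Subgroup.card_eq_card_quotient_mul_card_subgroup M
      rw [hn] at e
      rw [e]
      exact lt_mul_of_one_lt_right Nat.card_pos ((Subgroup.one_lt_card_iff_ne_bot M).mpr hMne)
    have hb := ih _ hlt (h.quotient M) f' hsurj hker rfl
    have hm : (QuotientGroup.mk a : X ⧸ M) ∈ f'.ker := MonoidHom.mem_ker.mpr (MonoidHom.mem_ker.mp ha)
    rw [hb, Subgroup.mem_bot, QuotientGroup.eq_one_iff] at hm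
    exact hm

end CfsgLib.J1Square
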