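import Cfsg.Agent.Lib.J1Square.NoJ
import Cfsg.Agent.Lib.J1Square.OneJ
import Cfsg.Agent.Lib.J1Square.TwoJ

/-!
The square of the first Janko group is recognised by its element orders.
-/

set_option autoImplicit false
set_option maxHeartbeats 1000000
set_option linter.unusedSectionVars false
set_option linter.style.haveILetI false

namespace CfsgLib.J1Square

open Cfsg CfsgLib

universe u

/-- An element normalising a `J1` component acts on it as one of its elements. -/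
theorem inner_on {Q : Type u} [Group Q] [Finite Q] {K : Subgroup Q} (hK : IsJ K) {x : Q}
    (hx : x ∈ Subgroup.normalizer (K : Set Q)) : ∃ k ∈ K, ∀ a ∈ K, Commute a (k⁻¹ * x) := by
  obtain ⟨k, hk⟩ := hK.inner (K.normalizerMonoidHom ⟨x, hx⟩)
  refine ⟨k, k.2, fun a ha => ?_⟩
  have h1 : x * a * x⁻¹ = (k : Q) * a * (k : Q)⁻¹ :=
    (congrArg Subtype.val (DFunLike.congr_fun hk (⟨a, ha⟩ : K)) : _)
  show a * ((k : Q)⁻¹ * x) = (k : Q)⁻¹ * x * a
  calc a * ((k : Q)⁻¹ * x) = (k : Q)⁻¹ * ((k : Q) * a * (k : Q)⁻¹) * x := by group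
    _ = (k : Q)⁻¹ * x * a := by rw [← h1]; group

/-- The recognition. -/
theorem recognition {G : Type u} [Group G] [Finite G]
    (h : Set.range (orderOf : G → ℕ) = Set.range (orderOf : ↥Cfsg.Spor.J1 × ↥Cfsg.Spor.J1 → ℕ)) :
    Nonempty (G ≃* ↥Cfsg.Spor.J1 × ↥Cfsg.Spor.J1) := by
  classical
  have hG : ∀ g : G, ∃ x : ↥Cfsg.Spor.J1 × ↥Cfsg.Spor.J1, orderOf x = orderOf g := fun g =>
    Set.mem_range.mp (h ▸ Set.mem_range_self g)
  have hO : Orders G := by
    refine ⟨fun g r hr hd => ?_, fun g r hr hd => ?_, fun g r s t hr hs ht dr ds dt => ?_, fun g x hx hd => ?_⟩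
    all_goals obtain ⟨y, hy⟩ := hG g
    · exact orders_square.primes y r hr (hy ▸ hd)
    · exact orders_square.sqfree y r hr (hy ▸ hd)
    · exact orders_square.no_three y r s t hr hs ht (hy ▸ dr) (hy ▸ ds) (hy ▸ dt)
    · exact orders_square.no_deep y x hx (hy ▸ hd)
  have hp : Pairs G := fun r hr s hs hne => by
    obtain ⟨x, hx⟩ := pairs_square r hr s hs hne
    exact Set.mem_range.mp (h.symm ▸ ⟨x, hx⟩)
  have hns : ¬ Group.IsSolvable G := fun hs => by
    haveI := hs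
    refine no_solvable_four hO (H := ⊤) (Group.isSolvable_of_isSolvable_injective (f := (⊤ : Subgroup G).subtype)
      Subtype.val_injective) {2, 7, 11, 19} rfl (by decide) (by decide) fun a ha b hb hab => ?_
    obtain ⟨g, hg⟩ := hp a ((by decide +kernel : ({2, 7, 11, 19} : Finset ℕ) ⊆ Six) ha) b
      ((by decide +kernel : ({2, 7, 11, 19} : Finset ℕ) ⊆ Six) hb) hab
    exact ⟨g, Subgroup.mem_top g, hg ▸ dvd_rfl⟩
  haveI hRs : Group.IsSolvable (solvableRadical G) := isSolvable_solvableRadical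
  set R := solvableRadical G with hRdef
  let π := QuotientGroup.mk' R
  have hπ : Function.Surjective π := QuotientGroup.mk'_surjective R
  have hk : Group.IsSolvable π.ker := by rw [QuotientGroup.ker_mk']; exact hRs
  have hR : solvableRadical (G ⧸ R) = ⊥ := radical_quotient G
  have hQ : Orders (G ⧸ R) := hO.quotient R
  by_cases hexJ : ∃ K : Subgroup (G ⧸ R), IsComponent K ∧ IsJ K
  swap
  · push Not at hexJ
    exfalso
    by_cases hexL : ∃ K : Subgroup (G ⧸ R), IsComponent K ∧ IsL K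
    · obtain ⟨L, hL, hLL⟩ := hexL
      exact no_linear hO hp π hπ hk hR hexJ hL hLL
    · push Not at hexL
      exact no_alternating hO hp π hπ hk hR fun K hK =>
        (component_kind hQ hR hK).resolve_right fun e => e.elim (hexL K hK) (hexJ K hK)
  obtain ⟨J₁, hJ₁, kJ₁⟩ := hexJ
  have hfix : ∀ (x : G ⧸ R) (K : Subgroup (G ⧸ R)), IsComponent K → x ∈ Subgroup.normalizer (K : Set (G ⧸ R)) :=
    fun x K hK => mem_normalizer_of_map (all_fix hQ hR hJ₁ (Or.inr kJ₁.card) x hK)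
  by_cases hexJ2 : ∃ K : Subgroup (G ⧸ R), IsComponent K ∧ K ≠ J₁ ∧ IsJ K
  swap
  · push Not at hexJ2
    exfalso
    by_cases hexK : ∃ K : Subgroup (G ⧸ R), IsComponent K ∧ K ≠ J₁
    · obtain ⟨K, hK, hne⟩ := hexK
      exact one_mixed hO hp π hπ hk hR hJ₁ kJ₁ hK hne hexJ2
    · push Not at hexK
      have hmem : ∀ x : G ⧸ R, x ∈ J₁ := fun x => by
        obtain ⟨k, hk, hc⟩ := inner_on kJ₁ (hfix x J₁ hJ₁)
        have h1 := eq_one_of_commute_layer hR fun L hL a ha => hc a (hexK L hL ▸ ha)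
        rwa [← inv_mul_eq_one.mp h1]
      obtain ⟨e⟩ := kJ₁
      exact one_only hO hp π hπ hk
        ⟨((Subgroup.topEquiv.symm.trans (MulEquiv.subgroupCongr ((Subgroup.eq_top_iff' J₁).mpr hmem).symm))).trans e⟩
  obtain ⟨J₂, hJ₂, hne, kJ₂⟩ := hexJ2
  have hall : ∀ M : Subgroup (G ⧸ R), IsComponent M → M = J₁ ∨ M = J₂ := fun M hM => by
    by_contra hcon
    push Not at hcon
    exact no_three_janko hQ hJ₁ hJ₂ hM (component_kind hQ hR hM) kJ₁.card kJ₂.card hne.symm hcon.1.symm hcon.2.symm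
  have hcomm : ∀ a ∈ J₁, ∀ b ∈ J₂, Commute a b := fun a ha b hb => commute_of_ne hJ₁ hJ₂ hne.symm ha hb
  let φ : J₁ × J₂ →* G ⧸ R := MonoidHom.noncommCoprod J₁.subtype J₂.subtype fun a b => hcomm a a.2 b b.2
  have hsurj : Function.Surjective φ := fun x => by
    obtain ⟨a, ha, hca⟩ := inner_on kJ₁ (hfix x J₁ hJ₁)
    obtain ⟨b, hb, hcb⟩ := inner_on kJ₂ (hfix x J₂ hJ₂)
    refine ⟨(⟨a, ha⟩, ⟨b, hb⟩), ?_⟩
    show a * b = x
    have h1 : (a * b)⁻¹ * x = 1 := eq_one_of_commute_layer hR fun M hM m hm => by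
      rcases hall M hM with rfl | rfl
      · rw [show (a * b)⁻¹ * x = b⁻¹ * (a⁻¹ * x) by group]
        exact ((hcomm m hm b hb).inv_right).mul_right (hca m hm)
      · rw [(hcomm a ha b hb).eq, show (b * a)⁻¹ * x = a⁻¹ * (b⁻¹ * x) by group]
        exact ((hcomm a ha m hm).symm.inv_right).mul_right (hcb m hm)
    exact inv_mul_eq_one.mp h1
  have hinj : Function.Injective φ := (injective_iff_map_eq_one φ).mpr fun p hpe => by
    have hp' : (p.1 : G ⧸ R) * (p.2 : G ⧸ R) = 1 := hpe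
    have hz : p.1 ∈ Subgroup.center J₁ := Subgroup.mem_center_iff.mpr fun z => Subtype.ext (by
      refine (hcomm z z.2 (p.1 : G ⧸ R) ?_).eq
      rw [eq_inv_of_mul_eq_one_left hp']
      exact inv_mem p.2.2)
    rw [center_eq_bot hR hJ₁, Subgroup.mem_bot] at hz
    rw [hz] at hp'
    simp only [OneMemClass.coe_one, one_mul] at hp'
    exact Prod.ext hz (Subtype.ext hp')
  obtain ⟨e₁⟩ := kJ₁
  obtain ⟨e₂⟩ := kJ₂
  let e : G ⧸ R ≃* ↥Cfsg.Spor.J1 × ↥Cfsg.Spor.J1 :=
    (MulEquiv.ofBijective φ ⟨hinj, hsurj⟩).symm.trans (e₁.prodCongr e₂)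
  have hker : (e.toMonoidHom.comp π).ker = π.ker := by
    ext g
    rw [MonoidHom.mem_ker, MonoidHom.mem_ker]
    exact map_eq_one_iff e e.injective
  have hbot := two_rad hO (e.toMonoidHom.comp π) (e.surjective.comp hπ) (by rw [hker]; exact hk)
  rw [hker] at hbot
  exact ⟨(MulEquiv.ofBijective π ⟨(π.ker_eq_bot_iff).mp hbot, hπ⟩).trans e⟩

end CfsgLib.J1Square
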